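import Groth.Agent.EtMilLib.Glue

/-!
Milnor squares: algebras over a fibre product of rings.
-/

set_option autoImplicit false
set_option linter.style.haveILetI false

universe u

open TensorProduct

namespace Groth.Agent.EtMilLib

section gen

variable (R S : Type u) [CommRing R] [CommRing S] [Algebra R S] {E : Type u} [CommRing E] [Algebra R E]

/-- Finitely many elements of `E` whose images generate `S ⊗ E`. -/
theorem exists_finset_adjoin [Algebra.FiniteType S (S ⊗[R] E)] :
    ∃ t : Finset E, Algebra.adjoin S ((fun e => (1 : S) ⊗ₜ[R] e) '' (t : Set E)) = ⊤ := by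
  classical
  obtain ⟨U, hU⟩ := (inferInstance : Algebra.FiniteType S (S ⊗[R] E)).out
  have key : ∀ y : S ⊗[R] E, ∃ t : Finset E,
      y ∈ Algebra.adjoin S ((fun e => (1 : S) ⊗ₜ[R] e) '' (t : Set E)) := by
    intro y
    induction y using TensorProduct.induction_on with
    | zero => exact ⟨∅, zero_mem _⟩
    | tmul a e =>
      refine ⟨{e}, ?_⟩
      rw [show a ⊗ₜ[R] e = a • ((1 : S) ⊗ₜ[R] e) by rw [smul_tmul', smul_eq_mul, mul_one]]
      exact Subalgebra.smul_mem _ (Algebra.subset_adjoin (Set.mem_image_of_mem _ (Finset.mem_coe.2 (Finset.mem_singleton_self e)))) a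
    | add x y hx hy =>
      obtain ⟨t, ht⟩ := hx; obtain ⟨t', ht'⟩ := hy
      exact ⟨t ∪ t', add_mem (Algebra.adjoin_mono (Set.image_mono (Finset.coe_subset.2 Finset.subset_union_left)) ht)
        (Algebra.adjoin_mono (Set.image_mono (Finset.coe_subset.2 Finset.subset_union_right)) ht')⟩
  choose t ht using key
  refine ⟨U.biUnion t, eq_top_iff.2 (hU ▸ Algebra.adjoin_le fun u hu => ?_)⟩
  exact Algebra.adjoin_mono (Set.image_mono (Finset.coe_subset.2 (Finset.subset_biUnion_of_mem t hu))) (ht u)

/-- If the images of a subalgebra generate `S ⊗ E`, then `S ⊗ (E / T) = 0`. -/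
theorem subsingleton_quot {T : Subalgebra R E}
    (h : Algebra.adjoin S ((fun e => (1 : S) ⊗ₜ[R] e) '' (T : Set E)) = ⊤) :
    Subsingleton (S ⊗[R] (E ⧸ Subalgebra.toSubmodule T)) := by
  refine subsingleton_of_forall_eq 0 fun z => ?_
  obtain ⟨y, rfl⟩ := LinearMap.lTensor_surjective S (Submodule.mkQ_surjective (Subalgebra.toSubmodule T)) z
  have hy : y ∈ (Algebra.TensorProduct.map (AlgHom.id S S) T.val).range := by
    refine (h ▸ Algebra.adjoin_le ?_ : (⊤ : Subalgebra S (S ⊗[R] E)) ≤ _) Algebra.mem_top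
    rintro _ ⟨e, he, rfl⟩
    exact ⟨(1 : S) ⊗ₜ[R] (⟨e, he⟩ : T), rfl⟩
  obtain ⟨x, rfl⟩ := hy
  induction x using TensorProduct.induction_on with
  | zero => simp
  | tmul a e =>
    show a ⊗ₜ[R] (Submodule.mkQ (Subalgebra.toSubmodule T) (e : E)) = 0
    rw [show Submodule.mkQ (Subalgebra.toSubmodule T) (e : E) = 0 from (Submodule.Quotient.mk_eq_zero _).2 e.2, tmul_zero]
  | add x y hx hy => rw [map_add, map_add, hx, hy, add_zero]

/-- Finitely many elements of an ideal generating the kernel after base change. -/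
theorem exists_finset_kernel {P : Type u} [CommRing P] [Algebra R P] [Algebra.FinitePresentation R P]
    (f : P →ₐ[R] E) (hf : Function.Surjective f) [Module.Flat R E] [Algebra.FinitePresentation S (S ⊗[R] E)] :
    ∃ t : Finset P, (∀ x ∈ t, x ∈ RingHom.ker f) ∧ ∀ K0 : Ideal P, (t : Set P) ⊆ K0 →
      ∀ x : S ⊗[R] ((RingHom.ker f).restrictScalars R),
        (LinearMap.lTensor S ((RingHom.ker f).restrictScalars R).subtype) x ∈
          LinearMap.range (LinearMap.lTensor S (K0.restrictScalars R).subtype) := by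
  classical
  let g : S ⊗[R] P →ₐ[S] S ⊗[R] E := Algebra.TensorProduct.map (AlgHom.id S S) f
  have hg : ∀ x, g x = LinearMap.lTensor S f.toLinearMap x := fun x => by
    induction x using TensorProduct.induction_on with
    | zero => simp
    | tmul a e => rfl
    | add x y hx hy => rw [map_add, map_add, hx, hy]
  have hgs : Function.Surjective g := fun z => by
    obtain ⟨y, hy⟩ := LinearMap.lTensor_surjective S (g := f.toLinearMap) hf z
    exact ⟨y, (hg y).trans hy⟩
  obtain ⟨U, hU⟩ := Algebra.FinitePresentation.ker_fG_of_surjective g hgs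
  have hex : Function.Exact ((RingHom.ker f).restrictScalars R).subtype f.toLinearMap := fun x =>
    ⟨fun hx => ⟨⟨x, hx⟩, rfl⟩, by rintro ⟨k, rfl⟩; exact k.2⟩
  have key : ∀ y : S ⊗[R] ((RingHom.ker f).restrictScalars R), ∃ t : Finset P, (∀ x ∈ t, x ∈ RingHom.ker f) ∧
      LinearMap.lTensor S ((RingHom.ker f).restrictScalars R).subtype y ∈
        (Ideal.span (t : Set P)).map (Algebra.TensorProduct.includeRight : P →ₐ[R] S ⊗[R] P) := by
    intro y
    induction y using TensorProduct.induction_on with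
    | zero => exact ⟨∅, by simp, by rw [map_zero]; exact zero_mem _⟩
    | tmul a k =>
      refine ⟨{(k : P)}, fun x hx => by rw [Finset.mem_singleton.1 hx]; exact k.2, ?_⟩
      rw [LinearMap.lTensor_tmul,
        show (a ⊗ₜ[R] ((RingHom.ker f).restrictScalars R).subtype k : S ⊗[R] P) =
          (a ⊗ₜ[R] (1 : P)) * (Algebra.TensorProduct.includeRight (k : P)) by
          rw [Algebra.TensorProduct.includeRight_apply, Algebra.TensorProduct.tmul_mul_tmul, mul_one, one_mul]; rfl]
      exact Ideal.mul_mem_left _ _ (Ideal.mem_map_of_mem _ (Ideal.subset_span (by simp)))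
    | add x y hx hy =>
      obtain ⟨t, h1, ht⟩ := hx; obtain ⟨t', h2, ht'⟩ := hy
      refine ⟨t ∪ t', fun x hx => (Finset.mem_union.1 hx).elim (h1 x) (h2 x), ?_⟩
      rw [map_add]
      exact add_mem (Ideal.map_mono (Ideal.span_mono (Finset.coe_subset.2 Finset.subset_union_left)) ht)
        (Ideal.map_mono (Ideal.span_mono (Finset.coe_subset.2 Finset.subset_union_right)) ht')
  have hU' : ∀ u ∈ U, ∃ t : Finset P, (∀ x ∈ t, x ∈ RingHom.ker f) ∧
      u ∈ (Ideal.span (t : Set P)).map (Algebra.TensorProduct.includeRight : P →ₐ[R] S ⊗[R] P) := by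
    intro u hu
    have h0 : g u = 0 := (hU ▸ Submodule.subset_span hu : u ∈ RingHom.ker g)
    rw [hg] at h0
    obtain ⟨y, rfl⟩ := (lTensor_exact S hex hf u).1 h0
    exact key y
  choose t ht1 ht2 using hU'
  refine ⟨U.attach.biUnion (fun u => t u.1 u.2), fun x hx => ?_, fun K0 hK0 x => ?_⟩
  · obtain ⟨u, -, hu⟩ := Finset.mem_biUnion.1 hx
    exact ht1 _ _ x hu
  rw [← Ideal.map_includeRight_eq K0]
  have hx : LinearMap.lTensor S ((RingHom.ker f).restrictScalars R).subtype x ∈ RingHom.ker g := by
    rw [RingHom.mem_ker, hg]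
    exact (lTensor_exact S hex hf _).2 ⟨x, rfl⟩
  replace hx : LinearMap.lTensor S ((RingHom.ker f).restrictScalars R).subtype x ∈ Ideal.span (U : Set (S ⊗[R] P)) := hU.symm ▸ hx
  refine (Ideal.span_le.2 fun u hu => ?_ : Ideal.span (U : Set (S ⊗[R] P)) ≤ _) hx
  exact Ideal.map_mono (Ideal.span_le.2 fun p hp => hK0
    (Finset.mem_biUnion.2 ⟨⟨u, hu⟩, Finset.mem_attach _ _, hp⟩)) (ht2 u hu)

/-- Base change of smoothness to a field (or any ring) under `R → S → κ`. -/
theorem formallySmooth_bc (κ : Type u) [CommRing κ] [Algebra R κ] [Algebra S κ] [IsScalarTower R S κ]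
    [Algebra.Smooth S (S ⊗[R] E)] : Algebra.FormallySmooth κ (κ ⊗[R] E) :=
  .of_equiv (Algebra.TensorProduct.cancelBaseChange R S κ κ E)

end gen

variable {B' B A' A : Type u} [CommRing B'] [CommRing B] [CommRing A'] [CommRing A]
  [Algebra B' B] [Algebra B' A'] [Algebra B A] [Algebra A' A] [Algebra B' A]
  [IsScalarTower B' B A] [IsScalarTower B' A' A] (hsq : EtMil.IsFibreSquare B' B A' A)

include hsq

section descent

variable (E : Type u) [CommRing E] [Algebra B' E]

/-- Finite type descends along a Milnor square. -/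
theorem finiteType [Algebra.FiniteType B (B ⊗[B'] E)] [Algebra.FiniteType A' (A' ⊗[B'] E)] :
    Algebra.FiniteType B' E := by
  classical
  obtain ⟨t₁, h₁⟩ := exists_finset_adjoin B' B (E := E)
  obtain ⟨t₂, h₂⟩ := exists_finset_adjoin B' A' (E := E)
  set T := Algebra.adjoin B' ((t₁ ∪ t₂ : Finset E) : Set E)
  haveI : Subsingleton (B ⊗[B'] (E ⧸ Subalgebra.toSubmodule T)) := subsingleton_quot B' B
    (eq_top_iff.2 (h₁ ▸ Algebra.adjoin_mono (Set.image_mono fun e he =>
      Algebra.subset_adjoin (Finset.coe_subset.2 Finset.subset_union_left he))))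
  haveI : Subsingleton (A' ⊗[B'] (E ⧸ Subalgebra.toSubmodule T)) := subsingleton_quot B' A'
    (eq_top_iff.2 (h₂ ▸ Algebra.adjoin_mono (Set.image_mono fun e he =>
      Algebra.subset_adjoin (Finset.coe_subset.2 Finset.subset_union_right he))))
  haveI := subsingleton hsq (E ⧸ Subalgebra.toSubmodule T)
  exact ⟨⟨t₁ ∪ t₂, eq_top_iff.2 fun e _ => (Submodule.Quotient.mk_eq_zero _).1
    (Subsingleton.elim (Submodule.Quotient.mk (p := Subalgebra.toSubmodule T) e) 0)⟩⟩

/-- Flatness with finite presentation descends along a Milnor square. -/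
theorem finitePresentation_alg [Module.Flat B (B ⊗[B'] E)] [Algebra.FinitePresentation B (B ⊗[B'] E)]
    [Module.Flat A' (A' ⊗[B'] E)] [Algebra.FinitePresentation A' (A' ⊗[B'] E)] :
    Algebra.FinitePresentation B' E := by
  classical
  haveI : Module.Flat B' E := flat hsq
  haveI : Algebra.FiniteType B' E := finiteType hsq E
  obtain ⟨n, f, hf⟩ := Algebra.FiniteType.iff_quotient_mvPolynomial''.1 (inferInstance : Algebra.FiniteType B' E)
  obtain ⟨t₁, ht₁, h₁⟩ := exists_finset_kernel B' B f hf
  obtain ⟨t₂, ht₂, h₂⟩ := exists_finset_kernel B' A' f hf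
  set K0 : Ideal (MvPolynomial (Fin n) B') := Ideal.span ((t₁ ∪ t₂ : Finset _) : Set _) with hK0
  let K := (RingHom.ker f).restrictScalars B'
  have hle : K0.restrictScalars B' ≤ K := fun x hx => (Ideal.span_le.2 fun y hy =>
    (Finset.mem_union.1 hy).elim (ht₁ y) (ht₂ y) : K0 ≤ RingHom.ker f) hx
  have hinj : ∀ (S : Type u) [CommRing S] [Algebra B' S], Function.Injective (LinearMap.lTensor S K.subtype) :=
    fun S _ _ => LinearMap.lTensor_injective_of_exact_of_flat f.toLinearMap hf K.subtype
      (Submodule.subtype_injective _) (fun x => ⟨fun hx => ⟨⟨x, hx⟩, rfl⟩, by rintro ⟨k, rfl⟩; exact k.2⟩) S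
  let ι := Submodule.inclusion hle
  have hsurj : ∀ (S : Type u) [CommRing S] [Algebra B' S],
      (∀ x : S ⊗[B'] K, LinearMap.lTensor S K.subtype x ∈
        LinearMap.range (LinearMap.lTensor S (K0.restrictScalars B').subtype)) →
      Subsingleton (S ⊗[B'] (K ⧸ LinearMap.range ι)) := by
    intro S _ _ h
    refine subsingleton_of_forall_eq 0 fun z => ?_
    obtain ⟨y, rfl⟩ := LinearMap.lTensor_surjective S (Submodule.mkQ_surjective (LinearMap.range ι)) z
    obtain ⟨w, hw⟩ := h y
    obtain rfl : LinearMap.lTensor S ι w = y := hinj S (by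
      rw [← hw, ← LinearMap.comp_apply, ← LinearMap.lTensor_comp, Submodule.subtype_comp_inclusion])
    rw [← LinearMap.comp_apply, ← LinearMap.lTensor_comp, LinearMap.range_mkQ_comp, LinearMap.lTensor_zero,
      LinearMap.zero_apply]
  haveI := hsurj B (h₁ K0 fun x hx => Ideal.subset_span (Finset.mem_union_left _ hx))
  haveI := hsurj A' (h₂ K0 fun x hx => Ideal.subset_span (Finset.mem_union_right _ hx))
  haveI := subsingleton hsq (K ⧸ LinearMap.range ι)
  refine Algebra.FinitePresentation.of_surjective hf ⟨t₁ ∪ t₂, le_antisymm (fun x hx => hle hx) fun x hx => ?_⟩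
  obtain ⟨w, hw⟩ := (Submodule.Quotient.mk_eq_zero _).1
    (Subsingleton.elim (Submodule.Quotient.mk (p := LinearMap.range ι) (⟨x, hx⟩ : K)) 0)
  have hwe : (w : MvPolynomial (Fin n) B') = x := congrArg Subtype.val hw
  exact hwe ▸ w.2

/-- Smoothness descends along a Milnor square. -/
theorem smooth [Algebra.Smooth B (B ⊗[B'] E)] [Algebra.Smooth A' (A' ⊗[B'] E)] :
    Algebra.Smooth B' E := by
  haveI : Algebra.FinitePresentation B' E := finitePresentation_alg hsq E
  haveI : Module.Flat B' E := flat hsq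
  refine Algebra.Smooth.of_formallySmooth_fiber fun P hP => ?_
  by_cases hJ : RingHom.ker (algebraMap B' B) ≤ P
  · let g₀ : { g : B' →+* P.ResidueField // RingHom.ker (algebraMap B' B) ≤ RingHom.ker g } :=
      ⟨algebraMap B' P.ResidueField, fun x hx => by
        rw [RingHom.mem_ker]; exact (Ideal.algebraMap_residueField_eq_zero).2 (hJ hx)⟩
    let θ : B →+* P.ResidueField := RingHom.liftOfSurjective (algebraMap B' B) (surj hsq) g₀
    letI := θ.toAlgebra
    haveI : IsScalarTower B' B P.ResidueField := IsScalarTower.of_algebraMap_eq fun x =>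
      ((algebraMap B' B).liftOfSurjective_comp_apply (surj hsq) g₀ x).symm
    exact formallySmooth_bc B' B P.ResidueField (E := E)
  · obtain ⟨j, hj, hjP⟩ := SetLike.not_le_iff_exists.1 hJ
    let q := algebraMap B' P.ResidueField
    have hq : q j ≠ 0 := fun h => hjP ((Ideal.algebraMap_residueField_eq_zero).1 h)
    let a := act hsq ⟨j, hj⟩
    have ha : ∀ b, q (a (algebraMap B' A' b)) = q b * q j := fun b => by
      rw [← map_mul]; congr 1
      exact act_eq hsq (by rw [map_mul, RingHom.mem_ker.1 hj, mul_zero]) (map_mul _ _ _)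
    let θ : A' →+* P.ResidueField :=
      { toFun := fun x => q (a x) / q j
        map_one' := by
          rw [← map_one (algebraMap B' A'), ha, map_one, one_mul, div_self hq]
        map_mul' := fun x y => by
          have h : a x * a y = a (x * y) * j := by
            refine ext hsq ?_ ?_
            · rw [map_mul, map_mul, (act_spec hsq _ _).1, (act_spec hsq _ _).1, zero_mul, RingHom.mem_ker.1 hj, mul_zero]
            · rw [map_mul, map_mul, (act_spec hsq _ _).2, (act_spec hsq _ _).2, (act_spec hsq _ _).2]; ring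
          field_simp
          rw [← map_mul, ← map_mul, h]
        map_zero' := by rw [← map_zero (algebraMap B' A'), ha, map_zero, zero_mul, zero_div]
        map_add' := fun x y => by
          rw [← add_div, ← map_add]; congr 2
          exact act_eq hsq (by rw [map_add, (act_spec hsq _ _).1, (act_spec hsq _ _).1, add_zero])
            (by rw [map_add, (act_spec hsq _ _).2, (act_spec hsq _ _).2, add_mul]) }
    letI := θ.toAlgebra
    haveI : IsScalarTower B' A' P.ResidueField := IsScalarTower.of_algebraMap_eq fun x => by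
      show q x = q (a (algebraMap B' A' x)) / q j
      rw [ha, mul_div_assoc, div_self hq, mul_one]
    exact formallySmooth_bc B' A' P.ResidueField (E := E)

end descent

/-- A fibre product of a compatible pair of base changes is a base change of each. -/
theorem isPushout (D' D C' C : Type u) [CommRing D'] [CommRing D] [CommRing C'] [CommRing C]
    [Algebra D' D] [Algebra D' C'] [Algebra D C] [Algebra C' C] [Algebra D' C] [IsScalarTower D' D C] [IsScalarTower D' C' C]
    (hsq' : EtMil.IsFibreSquare D' D C' C)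
    [Algebra B' D'] [Algebra B D] [Algebra A' C'] [Algebra A C]
    [Algebra B' D] [IsScalarTower B' B D] [IsScalarTower B' D' D]
    [Algebra B' C'] [IsScalarTower B' A' C'] [IsScalarTower B' D' C']
    [Algebra B C] [IsScalarTower B A C] [IsScalarTower B D C]
    [Algebra A' C] [IsScalarTower A' A C] [IsScalarTower A' C' C]
    [Algebra.IsPushout B D A C] [Algebra.IsPushout A' C' A C] :
    Algebra.IsPushout B' B D' D ∧ Algebra.IsPushout B' A' D' C' := by
  haveI : Algebra.IsPushout B A D C := .symm inferInstance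
  haveI : Algebra.IsPushout A' A C' C := .symm inferInstance
  let φ : A ⊗[B] D ≃ₗ[A] A ⊗[A'] C' :=
    (Algebra.IsPushout.equiv B A D C).toLinearEquiv.trans (Algebra.IsPushout.equiv A' A C' C).toLinearEquiv.symm
  have hφ : ∀ (d : D) (c : C'), φ ((1 : A) ⊗ₜ[B] d) = (1 : A) ⊗ₜ[A'] c ↔ algebraMap D C d = algebraMap C' C c := by
    intro d c
    show (Algebra.IsPushout.equiv A' A C' C).symm (Algebra.IsPushout.equiv B A D C ((1 : A) ⊗ₜ[B] d)) = _ ↔ _
    rw [AlgEquiv.symm_apply_eq, Algebra.IsPushout.equiv_tmul, Algebra.IsPushout.equiv_tmul, map_one, one_mul, one_mul]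
  let e₀ : D' →ₗ[B'] EtMil.glue B' φ :=
    ((IsScalarTower.toAlgHom B' D' D).toLinearMap.prod (IsScalarTower.toAlgHom B' D' C').toLinearMap).codRestrict _
      fun d => (mem_glue φ).2 ((hφ _ _).2 (comm (B := D) (A' := C') (A := C) d))
  have he₀ : Function.Bijective e₀ := by
    refine ⟨fun x y h => ext hsq' (congrArg (fun z : EtMil.glue B' φ => (z : D × C').1) h) (congrArg (fun z : EtMil.glue B' φ => (z : D × C').2) h), ?_⟩
    rintro ⟨⟨d, c⟩, h⟩
    obtain ⟨x, ⟨h1, h2⟩, -⟩ := hsq'.2 d c ((hφ d c).1 h)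
    exact ⟨x, Subtype.ext (Prod.ext h1 h2)⟩
  let e := LinearEquiv.ofBijective e₀ he₀
  refine ⟨⟨IsBaseChange.of_equiv ((e.baseChange B' B).trans
    (LinearEquiv.ofBijective _ (fstBC_bijective hsq φ))) fun x => ?_⟩,
    ⟨IsBaseChange.of_equiv ((e.baseChange B' A').trans
    (LinearEquiv.ofBijective _ (sndBC_bijective hsq φ))) fun x => ?_⟩⟩
  · show LinearMap.liftBaseChange B (EtMil.glueFst B' φ) ((1 : B) ⊗ₜ e₀ x) = _
    rw [LinearMap.liftBaseChange_tmul, one_smul]; rfl
  · show LinearMap.liftBaseChange A' (EtMil.glueSnd B' φ) ((1 : A') ⊗ₜ e₀ x) = _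
    rw [LinearMap.liftBaseChange_tmul, one_smul]; rfl

end Groth.Agent.EtMilLib
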