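import Groth.Agent.EtMilLib.Basic

/-!
Milnor squares: flatness descends along `B' → B × A'`.
-/

set_option autoImplicit false
set_option linter.style.haveILetI false

universe u

open TensorProduct

namespace Groth.Agent.EtMilLib

section generic

variable {R S : Type u} [CommRing R] [CommRing S] [Algebra R S]
  {K F G : Type u} [AddCommGroup K] [Module R K] [AddCommGroup F] [Module R F] [AddCommGroup G] [Module R G]

/-- Purity after base change gives purity against `S`-modules. -/
theorem lTensor_injective_bc (ι : K →ₗ[R] F) (p : F →ₗ[R] G) (hp : Function.Surjective p)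
    (H : Function.Exact ι p) (hι : Function.Injective (ι.baseChange S)) [Module.Flat S (S ⊗[R] G)]
    (Y : Type u) [AddCommGroup Y] [Module S Y] [Module R Y] [IsScalarTower R S Y] :
    Function.Injective (ι.lTensor Y) := by
  have hps : Function.Surjective (p.baseChange S) := LinearMap.lTensor_surjective S hp
  have hex : Function.Exact (ι.baseChange S) (p.baseChange S) := lTensor_exact S H hp
  have h := LinearMap.lTensor_injective_of_exact_of_flat (p.baseChange S) hps (ι.baseChange S) hι hex Y
  let eK := AlgebraTensorModule.cancelBaseChange R S S Y K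
  let eF := AlgebraTensorModule.cancelBaseChange R S S Y F
  have key : ∀ w : Y ⊗[R] K, ι.lTensor Y w = eF ((ι.baseChange S).lTensor Y (eK.symm w)) := fun w => by
    induction w using TensorProduct.induction_on with
    | zero => simp
    | tmul y k => simp [eK, eF]
    | add a b ha hb => simp only [map_add, ha, hb]
  intro a b hab
  rw [key, key] at hab
  exact eK.symm.injective (h (eF.injective hab))

/-- `S`-linear injections stay injective after tensoring with `G` when `S ⊗ G` is flat. -/
theorem rTensor_injective_bc [Module.Flat S (S ⊗[R] G)] {Y Z : Type u} [AddCommGroup Y] [Module S Y]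
    [Module R Y] [IsScalarTower R S Y] [AddCommGroup Z] [Module S Z] [Module R Z] [IsScalarTower R S Z]
    (f : Y →ₗ[S] Z) (hf : Function.Injective f) : Function.Injective ((f.restrictScalars R).rTensor G) := by
  have h := Module.Flat.rTensor_preserves_injective_linearMap (M := S ⊗[R] G) f hf
  let eY := AlgebraTensorModule.cancelBaseChange R S S Y G
  let eZ := AlgebraTensorModule.cancelBaseChange R S S Z G
  have key : ∀ w : Y ⊗[R] G, (f.restrictScalars R).rTensor G w = eZ (f.rTensor (S ⊗[R] G) (eY.symm w)) := fun w => by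
    induction w using TensorProduct.induction_on with
    | zero => simp
    | tmul y k => simp [eY, eZ]
    | add a b ha hb => simp only [map_add, ha, hb]
  intro a b hab
  rw [key, key] at hab
  exact eY.symm.injective (h (eZ.injective hab))

/-- A module with a pure free presentation is flat. -/
theorem flat_of_pure [Module.Flat R F] (ι : K →ₗ[R] F) (p : F →ₗ[R] G) (hp : Function.Surjective p)
    (H : Function.Exact ι p)
    (hpure : ∀ (X : Type u) [AddCommGroup X] [Module R X], Function.Injective (ι.lTensor X)) :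
    Module.Flat R G := by
  rw [Module.Flat.iff_rTensor_preserves_injective_linearMap]
  intro X₁ X₂ _ _ _ _ f hf
  refine (injective_iff_map_eq_zero _).2 fun z hz => ?_
  obtain ⟨w, rfl⟩ := LinearMap.lTensor_surjective X₁ hp z
  have h1 : p.lTensor X₂ (f.rTensor F w) = 0 := by
    rw [← LinearMap.comp_apply, LinearMap.lTensor_comp_rTensor, ← LinearMap.rTensor_comp_lTensor]; exact hz
  obtain ⟨v, hv⟩ := (lTensor_exact X₂ H hp _).1 h1
  let q := (LinearMap.range f).mkQ
  have h2 : q.rTensor K v = 0 := by
    refine hpure _ ?_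
    rw [map_zero, ← LinearMap.comp_apply, LinearMap.lTensor_comp_rTensor, ← LinearMap.rTensor_comp_lTensor,
      LinearMap.comp_apply, hv, ← LinearMap.comp_apply, ← LinearMap.rTensor_comp,
      LinearMap.range_mkQ_comp, LinearMap.rTensor_zero, LinearMap.zero_apply]
  obtain ⟨v₁, hv₁⟩ := (rTensor_exact K (LinearMap.exact_map_mkQ_range f) (Submodule.mkQ_surjective _) v).1 h2
  have h3 : w = ι.lTensor X₁ v₁ := by
    refine Module.Flat.rTensor_preserves_injective_linearMap (M := F) f hf ?_
    rw [← hv, ← hv₁, ← LinearMap.comp_apply, LinearMap.lTensor_comp_rTensor, ← LinearMap.rTensor_comp_lTensor]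
    rfl
  rw [h3, ← LinearMap.comp_apply, ← LinearMap.lTensor_comp, H.linearMap_comp_eq_zero, LinearMap.lTensor_zero,
    LinearMap.zero_apply]

end generic

variable {B' B A' A : Type u} [CommRing B'] [CommRing B] [CommRing A'] [CommRing A]
  [Algebra B' B] [Algebra B' A'] [Algebra B A] [Algebra A' A] [Algebra B' A]
  [IsScalarTower B' B A] [IsScalarTower B' A' A] (hsq : EtMil.IsFibreSquare B' B A' A)

include hsq

/-- Flat modules are determined by their two restrictions. -/
theorem eq_zero_of_flat {F : Type u} [AddCommGroup F] [Module B' F] [Module.Flat B' F] {x : F}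
    (h1 : ((1 : B) ⊗ₜ[B'] x : B ⊗[B'] F) = 0) (h2 : ((1 : A') ⊗ₜ[B'] x : A' ⊗[B'] F) = 0) : x = 0 := by
  have hinj : Function.Injective ((Algebra.linearMap B' B).prod (Algebra.linearMap B' A')) := fun a b h =>
    ext hsq (congrArg Prod.fst h) (congrArg Prod.snd h)
  have h := Module.Flat.rTensor_preserves_injective_linearMap (M := F) _ hinj
  refine (TensorProduct.lid B' F).symm.injective (h ?_)
  rw [map_zero, map_zero]
  refine (TensorProduct.prodLeft B' B' B A' F).injective ?_
  simp [h1, h2]

theorem rTensor_injective_killed (G : Type u) [AddCommGroup G] [Module B' G] [Module.Flat B (B ⊗[B'] G)]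
    {M₁ M₂ : Type u} [AddCommGroup M₁] [Module B' M₁] [AddCommGroup M₂] [Module B' M₂] (f : M₁ →ₗ[B'] M₂)
    (hf : Function.Injective f)
    (hk₁ : ∀ j : B', algebraMap B' B j = 0 → ∀ m : M₁, j • m = 0)
    (hk₂ : ∀ j : B', algebraMap B' B j = 0 → ∀ m : M₂, j • m = 0) : Function.Injective (f.rTensor G) := by
  have hbij : ∀ (M : Type u) [AddCommGroup M] [Module B' M], (∀ j : B', algebraMap B' B j = 0 → ∀ m : M, j • m = 0) →
      Function.Bijective (TensorProduct.mk B' B M 1) := fun M _ _ hM => by
    refine ⟨(injective_iff_map_eq_zero _).2 fun m hm => ?_, exists_one_tmul hsq M⟩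
    refine Submodule.smul_induction_on (mem_smul_top_of_tmul hsq M hm) (fun j hj n _ => hM j hj n) fun x y hx hy => by
      rw [hx, hy, add_zero]
  let e₁ := LinearEquiv.ofBijective _ (hbij M₁ hk₁)
  let e₂ := LinearEquiv.ofBijective _ (hbij M₂ hk₂)
  have hf' : Function.Injective (f.baseChange B) := fun a b h => by
    obtain ⟨a, rfl⟩ := (hbij M₁ hk₁).2 a
    obtain ⟨b, rfl⟩ := (hbij M₁ hk₁).2 b
    rw [TensorProduct.mk_apply, TensorProduct.mk_apply, LinearMap.baseChange_tmul, LinearMap.baseChange_tmul] at h
    rw [hf ((hbij M₂ hk₂).1 h)]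
  have hcomp : (f.baseChange B).restrictScalars B' ∘ₗ e₁.toLinearMap = e₂.toLinearMap ∘ₗ f := by
    ext m; rfl
  have h2 : Function.Injective (((f.baseChange B).restrictScalars B' ∘ₗ e₁.toLinearMap).rTensor G) := by
    rw [LinearMap.rTensor_comp]
    exact (rTensor_injective_bc (R := B') (S := B) (G := G) (f.baseChange B) hf').comp (e₁.rTensor G).injective
  rw [hcomp, LinearMap.rTensor_comp, LinearMap.coe_comp] at h2
  exact Function.Injective.of_comp h2

variable {L : Type u} [AddCommGroup L] [Module B' L] [Module.Flat B (B ⊗[B'] L)] [Module.Flat A' (A' ⊗[B'] L)]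
  {F : Type u} [AddCommGroup F] [Module B' F] [Module.Flat B' F] (p : F →ₗ[B'] L) (hp : Function.Surjective p)

theorem rTensor_injective_ker {T X : Type u} [AddCommGroup T] [Module A' T] [Module B' T] [IsScalarTower B' A' T]
    [AddCommGroup X] [Module B' X] (μ : T →ₗ[B'] X)
    (hk1 : ∀ j : B', algebraMap B' B j = 0 → ∀ m : LinearMap.ker μ, j • m = 0) :
    Function.Injective ((LinearMap.ker μ).subtype.rTensor L) := by
  let Kμ := LinearMap.ker μ
  -- the `A'`-span of the kernel
  let U : Submodule A' T := Submodule.span A' (Kμ : Set T)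
  have hk2 : ∀ j : B', algebraMap B' B j = 0 → ∀ m : U, j • m = 0 := fun j hj m => by
    obtain ⟨m, hm⟩ := m
    refine Subtype.ext ?_
    show j • m = 0
    refine Submodule.span_induction (p := fun m _ => ∀ j : B', algebraMap B' B j = 0 → j • m = 0) ?_ ?_ ?_ ?_ hm j hj
    · exact fun m hm j hj => congrArg Subtype.val (hk1 j hj ⟨m, hm⟩)
    · exact fun j _ => smul_zero _
    · exact fun a b _ _ ha hb j hj => by rw [smul_add, ha j hj, hb j hj, add_zero]
    · intro a m _ hm j hj
      rw [← IsScalarTower.algebraMap_smul A' j, smul_smul, mul_comm, ← (act_spec hsq ⟨j, hj⟩ a).2, algebraMap_smul]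
      exact hm _ (act_spec hsq ⟨j, hj⟩ a).1
  let f₁ : Kμ →ₗ[B'] U :=
    { toFun := fun m => ⟨m, Submodule.subset_span m.2⟩
      map_add' := fun _ _ => rfl
      map_smul' := fun _ _ => rfl }
  show Function.Injective (Kμ.subtype.rTensor L)
  · skip
    have e : Kμ.subtype = (U.subtype.restrictScalars B') ∘ₗ f₁ := rfl
    have hU : Function.Injective ((U.subtype.restrictScalars B').rTensor L) :=
      rTensor_injective_bc (R := B') (S := A') (G := L) (Y := ↥U) (Z := T) U.subtype (Submodule.subtype_injective U)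
    have hf₁ : Function.Injective f₁ := fun a b h => Subtype.ext (congrArg (fun u : U => (u : T)) h)
    have hK : Function.Injective (f₁.rTensor L) := rTensor_injective_killed hsq L f₁ hf₁ hk1 hk2
    rw [e, LinearMap.rTensor_comp, LinearMap.coe_comp]
    exact hU.comp hK

include hp

theorem injective_B : Function.Injective ((LinearMap.ker p).subtype.baseChange B) := by
  let J := RingHom.ker (algebraMap B' B)
  refine (injective_iff_map_eq_zero _).2 fun z hz => ?_
  obtain ⟨k, rfl⟩ := exists_one_tmul hsq _ z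
  rw [LinearMap.baseChange_tmul, Submodule.subtype_apply] at hz
  set y : A' ⊗[B'] F := (1 : A') ⊗ₜ[B'] (k : F) with hy
  let pA : A' ⊗[B'] F →ₗ[A'] A' ⊗[B'] L := p.baseChange A'
  have hyk : y ∈ LinearMap.ker pA := by
    show pA y = 0
    rw [hy, LinearMap.baseChange_tmul, show p (k : F) = 0 from k.2, TensorProduct.tmul_zero]
  have hyI : y ∈ (RingHom.ker (algebraMap A' A)) • (⊤ : Submodule A' (A' ⊗[B'] F)) := by
    refine Submodule.smul_induction_on (mem_smul_top_of_tmul hsq F hz) (p := fun m =>
      (1 : A') ⊗ₜ[B'] m ∈ (RingHom.ker (algebraMap A' A)) • (⊤ : Submodule A' (A' ⊗[B'] F))) (fun j hj m _ => ?_)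
      fun a b ha hb => by rw [TensorProduct.tmul_add]; exact add_mem ha hb
    rw [TensorProduct.tmul_smul, ← IsScalarTower.algebraMap_smul A' j]
    exact Submodule.smul_mem_smul ((ker_bijOn hsq).mapsTo hj) trivial
  -- `I (A' ⊗ F) ∩ ker pA = I ker pA`
  have hsurj : Function.Surjective pA := LinearMap.lTensor_surjective A' hp
  have hinj := LinearMap.lTensor_injective_of_exact_of_flat (M := ↥(LinearMap.ker pA)) pA hsurj
    (LinearMap.ker pA).subtype (Submodule.subtype_injective (LinearMap.ker pA)) (LinearMap.exact_subtype_ker_map pA)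
    (A' ⧸ RingHom.ker (algebraMap A' A))
  have hyIK : (⟨y, hyk⟩ : LinearMap.ker pA) ∈ (RingHom.ker (algebraMap A' A)) • (⊤ : Submodule A' (LinearMap.ker pA)) := by
    refine (Submodule.Quotient.mk_eq_zero (R := A') (M := ↥(LinearMap.ker pA))
      ((RingHom.ker (algebraMap A' A)) • (⊤ : Submodule A' ↥(LinearMap.ker pA)))).1 ?_
    have h0 := (Submodule.Quotient.mk_eq_zero (R := A')
      ((RingHom.ker (algebraMap A' A)) • (⊤ : Submodule A' (A' ⊗[B'] F)))).2 hyI
    rw [← (quotTensorEquivQuotSMul (A' ⊗[B'] F) (RingHom.ker (algebraMap A' A))).symm.map_eq_zero_iff,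
      quotTensorEquivQuotSMul_symm_mk] at h0
    rw [← (quotTensorEquivQuotSMul ↥(LinearMap.ker pA) (RingHom.ker (algebraMap A' A))).symm.map_eq_zero_iff,
      quotTensorEquivQuotSMul_symm_mk]
    refine hinj ?_
    rw [map_zero, LinearMap.lTensor_tmul]
    exact h0
  -- lift to the kernel
  have hker : ∀ κ : LinearMap.ker pA, ∃ w : A' ⊗[B'] LinearMap.ker p,
      (LinearMap.ker p).subtype.baseChange A' w = κ := fun κ =>
    (lTensor_exact A' (LinearMap.exact_subtype_ker_map p) hp _).1 κ.2
  obtain ⟨k₀, hk₀, hk₀y⟩ : ∃ k₀ : LinearMap.ker p, k₀ ∈ J • (⊤ : Submodule B' (LinearMap.ker p)) ∧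
      (1 : A') ⊗ₜ[B'] (k₀ : F) = y := by
    refine Submodule.smul_induction_on (p := fun κ : ↥(LinearMap.ker pA) => ∃ k₀ : LinearMap.ker p,
      k₀ ∈ J • (⊤ : Submodule B' (LinearMap.ker p)) ∧ (1 : A') ⊗ₜ[B'] (k₀ : F) = (κ : A' ⊗[B'] F)) hyIK (fun i hi κ _ => ?_) ?_
    · obtain ⟨j, hj, rfl⟩ := (ker_bijOn hsq).surjOn hi
      obtain ⟨w, hw⟩ := hker κ
      refine ⟨psi hsq _ ⟨j, hj⟩ w, ?_, ?_⟩
      · clear hw
        induction w using TensorProduct.induction_on with
        | zero => rw [map_zero]; exact zero_mem _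
        | tmul a m => rw [psi_tmul]; exact Submodule.smul_mem_smul (act_spec hsq _ _).1 trivial
        | add a b ha hb => rw [map_add]; exact add_mem ha hb
      · rw [Submodule.coe_smul, ← hw]
        clear hw
        induction w using TensorProduct.induction_on with
        | zero => simp
        | tmul a m =>
          rw [psi_tmul, Submodule.coe_smul, LinearMap.baseChange_tmul, TensorProduct.smul_tmul',
            TensorProduct.tmul_smul, TensorProduct.smul_tmul', Algebra.smul_def, mul_one, (act_spec hsq _ _).2,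
            smul_eq_mul, mul_comm]
          rfl
        | add a b ha hb => rw [map_add, map_add, Submodule.coe_add, TensorProduct.tmul_add, ha, hb, smul_add]
    · rintro a b ⟨a', ha', ha⟩ ⟨b', hb', hb⟩
      exact ⟨a' + b', add_mem ha' hb', by rw [Submodule.coe_add, TensorProduct.tmul_add, ha, hb]; rfl⟩
  have hkk : k = k₀ := by
    refine Subtype.ext (sub_eq_zero.1 (eq_zero_of_flat hsq ?_ ?_))
    · rw [TensorProduct.tmul_sub, hz, zero_sub, neg_eq_zero]
      have := congrArg ((LinearMap.ker p).subtype.baseChange B) (tmul_eq_zero_of_mem hsq _ hk₀)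
      simpa using this
    · rw [TensorProduct.tmul_sub, hk₀y, sub_self]
  rw [hkk]
  exact tmul_eq_zero_of_mem hsq _ hk₀

theorem injective_A : Function.Injective ((LinearMap.ker p).subtype.baseChange A') := by
  refine (injective_iff_map_eq_zero _).2 fun z hz => ?_
  set ι := (LinearMap.ker p).subtype with hι
  let q := (IsScalarTower.toAlgHom B' A' A).toLinearMap
  have hqz : q.rTensor _ z = 0 := by
    refine lTensor_injective_bc (S := B) ι p hp (LinearMap.exact_subtype_ker_map p) (injective_B hsq p hp) A ?_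
    rw [map_zero, ← LinearMap.comp_apply, LinearMap.lTensor_comp_rTensor, ← LinearMap.rTensor_comp_lTensor,
      LinearMap.comp_apply, show ι.lTensor A' z = 0 from hz, map_zero]
  obtain ⟨l, rfl, hl⟩ := exists_of_rTensor_eq_zero hsq _ hqz
  rw [LinearMap.baseChange_tmul] at hz
  have h2 := congrArg (ι.baseChange B) hl
  rw [LinearMap.baseChange_tmul, map_zero] at h2
  rw [show l = 0 from Subtype.ext (eq_zero_of_flat hsq h2 hz), TensorProduct.tmul_zero]

theorem pure_kernel (X : Type u) [AddCommGroup X] [Module B' X] :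
    Function.Injective ((LinearMap.ker p).subtype.lTensor X) := by
  set ι := (LinearMap.ker p).subtype with hι
  have hexι : Function.Exact ι p := LinearMap.exact_subtype_ker_map p
  let I := RingHom.ker (algebraMap A' A)
  choose σ hσ using fun i : I => (ker_bijOn hsq).surjOn i.2
  let T := I ⊗[B'] X
  let μ : T →ₗ[B'] X := TensorProduct.lift (LinearMap.mk₂ B' (fun i x => σ i • x)
    (fun i i' x => by
      rw [← add_smul]; congr 1
      exact ext hsq (by rw [map_add, (hσ _).1, (hσ _).1, (hσ _).1, add_zero])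
        (by rw [map_add, (hσ _).2, (hσ _).2, (hσ _).2]; rfl))
    (fun c i x => by
      rw [smul_smul]; congr 1
      refine ext hsq (by rw [map_mul, (hσ _).1, (hσ _).1, mul_zero]) ?_
      rw [map_mul, (hσ _).2, (hσ _).2, ← Algebra.smul_def]; rfl)
    (fun i x y => smul_add _ x y) (fun c i x => smul_comm _ c x))
  have hμexact : Function.Exact μ (TensorProduct.mk B' B X 1) := fun x => by
    refine ⟨fun hx => ?_, ?_⟩
    · refine Submodule.smul_induction_on (mem_smul_top_of_tmul hsq X hx) (fun j hj m _ => ?_) ?_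
      · refine ⟨(⟨_, (ker_bijOn hsq).mapsTo hj⟩ : I) ⊗ₜ m, ?_⟩
        show σ _ • m = j • m
        congr 1
        exact ext hsq ((hσ _).1.trans (RingHom.mem_ker.1 hj).symm) (hσ _).2
      · rintro a b ⟨s, rfl⟩ ⟨t, rfl⟩; exact ⟨s + t, map_add _ _ _⟩
    · rintro ⟨t, rfl⟩
      induction t using TensorProduct.induction_on with
      | zero => simp
      | tmul i m =>
        show (1 : B) ⊗ₜ[B'] (σ i • m) = 0
        rw [← TensorProduct.smul_tmul, Algebra.smul_def, mul_one, (hσ i).1, TensorProduct.zero_tmul]
      | add a b ha hb => rw [map_add, map_add, ha, hb, add_zero]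
  let Kμ := LinearMap.ker μ
  -- `j • w = ι j ⊗ μ w`
  have hjw : ∀ (j : B') (hj : algebraMap B' B j = 0) (w : T),
      j • w = (⟨_, (ker_bijOn hsq).mapsTo hj⟩ : I) ⊗ₜ[B'] μ w := fun j hj w => by
    induction w using TensorProduct.induction_on with
    | zero => simp
    | tmul i m =>
      show j • (i ⊗ₜ[B'] m : T) = _ ⊗ₜ[B'] (σ i • m)
      rw [TensorProduct.smul_tmul', ← TensorProduct.smul_tmul]
      congr 1
      refine Subtype.ext ?_
      show j • (i : A') = σ i • algebraMap B' A' j
      rw [Algebra.smul_def, Algebra.smul_def, (hσ i).2, mul_comm]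
    | add a b ha hb => rw [smul_add, map_add, TensorProduct.tmul_add, ha, hb]
  have hk1 : ∀ j : B', algebraMap B' B j = 0 → ∀ m : Kμ, j • m = 0 := fun j hj m => Subtype.ext (by
    rw [Submodule.coe_smul, hjw j hj, show μ (m : T) = 0 from m.2, TensorProduct.tmul_zero]; rfl)
  have hKT : Function.Injective (Kμ.subtype.rTensor L) :=
    rTensor_injective_ker hsq μ hk1
  -- the chase
  refine (injective_iff_map_eq_zero _).2 fun z hz => ?_
  have h1 : (TensorProduct.mk B' B X 1).rTensor _ z = 0 := by
    refine lTensor_injective_bc (S := B) ι p hp hexι (injective_B hsq p hp) (B ⊗[B'] X) ?_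
    rw [map_zero, ← LinearMap.comp_apply, LinearMap.lTensor_comp_rTensor, ← LinearMap.rTensor_comp_lTensor,
      LinearMap.comp_apply, hz, map_zero]
  obtain ⟨t, rfl⟩ := (rTensor_exact _ hμexact (exists_one_tmul hsq X) z).1 h1
  have h2 : μ.rTensor F (ι.lTensor T t) = 0 := by
    rw [← LinearMap.comp_apply, LinearMap.rTensor_comp_lTensor, ← LinearMap.lTensor_comp_rTensor]; exact hz
  obtain ⟨w, hw⟩ := (Module.Flat.rTensor_exact (N := ↥Kμ) (N' := T) (N'' := X) (f := Kμ.subtype) (g := μ) F (LinearMap.exact_subtype_ker_map μ) _).1 h2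
  have h3 : p.lTensor Kμ w = 0 := by
    refine hKT ?_
    rw [map_zero, ← LinearMap.comp_apply, LinearMap.rTensor_comp_lTensor, ← LinearMap.lTensor_comp_rTensor,
      LinearMap.comp_apply, hw, ← LinearMap.comp_apply, ← LinearMap.lTensor_comp, hexι.linearMap_comp_eq_zero,
      LinearMap.lTensor_zero, LinearMap.zero_apply]
  obtain ⟨w', hw'⟩ := (lTensor_exact Kμ hexι hp _).1 h3
  have h4 : t = Kμ.subtype.rTensor _ w' := by
    refine lTensor_injective_bc (S := A') ι p hp hexι (injective_A hsq p hp) T ?_
    rw [← hw, ← hw', ← LinearMap.comp_apply, LinearMap.rTensor_comp_lTensor, ← LinearMap.lTensor_comp_rTensor]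
    rfl
  rw [h4, ← LinearMap.comp_apply, ← LinearMap.rTensor_comp, LinearMap.comp_ker_subtype, LinearMap.rTensor_zero,
    LinearMap.zero_apply]

omit hp p in
/-- **Flatness descends along a Milnor square.** -/
theorem flat : Module.Flat B' L :=
  have hp : Function.Surjective (Finsupp.linearCombination B' (id : L → L)) :=
    Finsupp.linearCombination_surjective _ Function.surjective_id
  flat_of_pure _ _ hp (LinearMap.exact_subtype_ker_map _) fun X _ _ => pure_kernel hsq _ hp X

end Groth.Agent.EtMilLib
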