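import Mathlib
import Groth.Prelude.Def_EtMil

/-!
Milnor squares: modules over a fibre product of rings.
-/

set_option autoImplicit false
set_option linter.style.haveILetI false

universe u

open TensorProduct

namespace Groth.Agent.EtMilLib

variable {B' B A' A : Type u} [CommRing B'] [CommRing B] [CommRing A'] [CommRing A]
  [Algebra B' B] [Algebra B' A'] [Algebra B A] [Algebra A' A] [Algebra B' A]
  [IsScalarTower B' B A] [IsScalarTower B' A' A] (hsq : EtMil.IsFibreSquare B' B A' A)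

theorem comm (b' : B') : algebraMap B A (algebraMap B' B b') = algebraMap A' A (algebraMap B' A' b') := by
  rw [← IsScalarTower.algebraMap_apply, ← IsScalarTower.algebraMap_apply]

include hsq

theorem surj : Function.Surjective (algebraMap B' B) := fun b => by
  obtain ⟨a, ha⟩ := hsq.1 (algebraMap B A b)
  obtain ⟨b', ⟨hb, -⟩, -⟩ := hsq.2 b a ha.symm
  exact ⟨b', hb⟩

theorem ext {x y : B'} (h1 : algebraMap B' B x = algebraMap B' B y)
    (h2 : algebraMap B' A' x = algebraMap B' A' y) : x = y := by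
  obtain ⟨z, -, hz⟩ := hsq.2 (algebraMap B' B x) (algebraMap B' A' x) (comm x)
  exact (hz x ⟨rfl, rfl⟩).trans (hz y ⟨h1.symm, h2.symm⟩).symm

theorem ker_bijOn : Set.BijOn (algebraMap B' A') (RingHom.ker (algebraMap B' B) : Set B')
    (RingHom.ker (algebraMap A' A) : Set A') := by
  refine ⟨fun j hj => ?_, fun x hx y hy h => ext hsq (hx.trans hy.symm) h, fun a ha => ?_⟩
  · show algebraMap A' A (algebraMap B' A' j) = 0
    rw [← comm (B := B), show algebraMap B' B j = 0 from hj, map_zero]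
  · obtain ⟨b', ⟨h1, h2⟩, -⟩ := hsq.2 0 a (by rw [map_zero]; exact (RingHom.mem_ker.1 ha).symm)
    exact ⟨b', h1, h2⟩

theorem ker_map : (RingHom.ker (algebraMap B' B)).map (algebraMap B' A') = RingHom.ker (algebraMap A' A) := by
  refine le_antisymm (Ideal.map_le_iff_le_comap.2 fun j hj => (ker_bijOn hsq).mapsTo hj) fun a ha => ?_
  obtain ⟨j, hj, rfl⟩ := (ker_bijOn hsq).surjOn ha
  exact Ideal.mem_map_of_mem _ hj

/-- `σ(a · ι j)`. -/
theorem exists_act (j : RingHom.ker (algebraMap B' B)) (a : A') :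
    ∃ k : B', algebraMap B' B k = 0 ∧ algebraMap B' A' k = a * algebraMap B' A' j := by
  obtain ⟨k, hk, h⟩ := (ker_bijOn hsq).surjOn
    (Ideal.mul_mem_left (RingHom.ker (algebraMap A' A)) a ((ker_bijOn hsq).mapsTo j.2))
  exact ⟨k, hk, h⟩

/-- The action of `A'` on the kernel of `B' → B`. -/
noncomputable def act (j : RingHom.ker (algebraMap B' B)) (a : A') : B' := (exists_act hsq j a).choose

theorem act_spec (j : RingHom.ker (algebraMap B' B)) (a : A') :
    algebraMap B' B (act hsq j a) = 0 ∧ algebraMap B' A' (act hsq j a) = a * algebraMap B' A' j :=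
  (exists_act hsq j a).choose_spec

theorem act_eq {j : RingHom.ker (algebraMap B' B)} {a : A'} {k : B'} (h1 : algebraMap B' B k = 0)
    (h2 : algebraMap B' A' k = a * algebraMap B' A' j) : act hsq j a = k :=
  ext hsq ((act_spec hsq j a).1.trans h1.symm) ((act_spec hsq j a).2.trans h2.symm)

variable (L : Type u) [AddCommGroup L] [Module B' L]

/-- Multiplication by a kernel element, factored through `A' ⊗ L`. -/
noncomputable def psi (j : RingHom.ker (algebraMap B' B)) : A' ⊗[B'] L →ₗ[B'] L :=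
  TensorProduct.lift (LinearMap.mk₂ B' (fun a l => act hsq j a • l)
    (fun a b l => by
      rw [← add_smul]; congr 1
      exact act_eq hsq (by simp [(act_spec hsq j a).1, (act_spec hsq j b).1])
        (by simp [(act_spec hsq j a).2, (act_spec hsq j b).2, add_mul]))
    (fun c a l => by
      rw [smul_smul]; congr 1
      exact act_eq hsq (by simp [(act_spec hsq j a).1]) (by simp [(act_spec hsq j a).2, Algebra.smul_def, mul_assoc]))
    (fun a l l' => smul_add _ l l') (fun c a l => smul_comm _ c l))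

theorem psi_tmul (j : RingHom.ker (algebraMap B' B)) (a : A') (l : L) :
    psi hsq L j (a ⊗ₜ l) = act hsq j a • l := rfl

theorem psi_one (j : RingHom.ker (algebraMap B' B)) (l : L) :
    psi hsq L j (1 ⊗ₜ l) = (j : B') • l := by
  rw [psi_tmul]; congr 1
  exact act_eq hsq j.2 (one_mul _).symm

theorem smul_eq_zero_of_tmul {l : L} (h : ((1 : A') ⊗ₜ[B'] l : A' ⊗[B'] L) = 0) {j : B'}
    (hj : algebraMap B' B j = 0) : j • l = 0 := by
  rw [← psi_one hsq L ⟨j, hj⟩ l, h, map_zero]

theorem exists_one_tmul (x : B ⊗[B'] L) : ∃ l : L, (1 : B) ⊗ₜ[B'] l = x := by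
  induction x using TensorProduct.induction_on with
  | zero => exact ⟨0, tmul_zero _ _⟩
  | tmul b l =>
    obtain ⟨c, rfl⟩ := surj hsq b
    exact ⟨c • l, by rw [← smul_tmul, Algebra.smul_def, mul_one]⟩
  | add x y hx hy =>
    obtain ⟨a, rfl⟩ := hx; obtain ⟨b, rfl⟩ := hy
    exact ⟨a + b, tmul_add _ _ _⟩

theorem mem_smul_top_of_tmul {l : L} (h : ((1 : B) ⊗ₜ[B'] l : B ⊗[B'] L) = 0) :
    l ∈ (RingHom.ker (algebraMap B' B)) • (⊤ : Submodule B' L) := by
  let e : (B' ⧸ RingHom.ker (algebraMap B' B)) ≃ₗ[B'] B :=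
    (Ideal.quotientKerAlgEquivOfSurjective (f := Algebra.ofId B' B) (surj hsq)).toLinearEquiv
  have he : (1 : B' ⧸ RingHom.ker (algebraMap B' B)) = e.symm 1 := by
    rw [LinearEquiv.eq_symm_apply]
    exact map_one (Ideal.quotientKerAlgEquivOfSurjective (f := Algebra.ofId B' B) (surj hsq))
  have h1 := congrArg (fun z => quotTensorEquivQuotSMul L (RingHom.ker (algebraMap B' B))
    (LinearEquiv.rTensor L e.symm z)) h
  simp only [map_zero, LinearEquiv.rTensor_tmul, ← he] at h1
  rw [← Submodule.Quotient.mk_eq_zero, ← h1,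
    show (1 : B' ⧸ RingHom.ker (algebraMap B' B)) = Ideal.Quotient.mk _ 1 from rfl,
    quotTensorEquivQuotSMul_mk_tmul, one_smul]

theorem tmul_eq_zero_of_mem {l : L} (h : l ∈ (RingHom.ker (algebraMap B' B)) • (⊤ : Submodule B' L)) :
    ((1 : B) ⊗ₜ[B'] l : B ⊗[B'] L) = 0 := by
  refine Submodule.smul_induction_on h (fun j hj m _ => ?_) fun x y hx hy => ?_
  · rw [← smul_tmul, Algebra.smul_def, mul_one, RingHom.mem_ker.1 hj, zero_tmul]
  · rw [tmul_add, hx, hy, add_zero]

theorem subsingleton [Subsingleton (B ⊗[B'] L)] [Subsingleton (A' ⊗[B'] L)] : Subsingleton L := by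
  refine subsingleton_of_forall_eq 0 fun l => ?_
  refine Submodule.smul_induction_on (mem_smul_top_of_tmul hsq L (Subsingleton.elim ((1 : B) ⊗ₜ[B'] l) 0))
    (fun j hj m _ => smul_eq_zero_of_tmul hsq L (Subsingleton.elim _ _) hj) fun x y hx hy => by rw [hx, hy, add_zero]

theorem finite [Module.Finite B (B ⊗[B'] L)] [Module.Finite A' (A' ⊗[B'] L)] : Module.Finite B' L := by
  classical
  obtain ⟨S, hS⟩ := (inferInstance : Module.Finite B (B ⊗[B'] L)).fg_top
  choose pre hpre using exists_one_tmul hsq L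
  obtain ⟨U, hU⟩ := (inferInstance : Module.Finite A' (A' ⊗[B'] L)).fg_top
  obtain ⟨T, hT⟩ : ∃ T : Finset L, ∀ y : A' ⊗[B'] L,
      y ∈ Submodule.span A' ((fun t => (1 : A') ⊗ₜ[B'] t) '' (T : Set L)) := by
    have : ∀ y : A' ⊗[B'] L, ∃ T : Finset L, y ∈ Submodule.span A' ((fun t => (1 : A') ⊗ₜ[B'] t) '' (T : Set L)) := by
      intro y
      induction y using TensorProduct.induction_on with
      | zero => exact ⟨∅, zero_mem _⟩
      | tmul a l =>
        refine ⟨{l}, ?_⟩
        rw [show a ⊗ₜ[B'] l = a • ((1 : A') ⊗ₜ[B'] l) by rw [smul_tmul', smul_eq_mul, mul_one]]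
        exact Submodule.smul_mem _ _ (Submodule.subset_span ⟨l, by simp, rfl⟩)
      | add x y hx hy =>
        obtain ⟨T, hT⟩ := hx; obtain ⟨T', hT'⟩ := hy
        exact ⟨T ∪ T', add_mem (Submodule.span_mono (Set.image_mono (Finset.coe_subset.2 Finset.subset_union_left)) hT)
          (Submodule.span_mono (Set.image_mono (Finset.coe_subset.2 Finset.subset_union_right)) hT')⟩
    choose T hT using this
    refine ⟨U.biUnion T, fun y => Submodule.span_le.2 (fun u hu => ?_) (hU.ge (Submodule.mem_top (x := y)))⟩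
    exact Submodule.span_mono (Set.image_mono (Finset.coe_subset.2 (Finset.subset_biUnion_of_mem T hu))) (hT u)
  set M := Submodule.span B' (((S.image pre ∪ T : Finset L) : Set L)) with hM
  have hpsi : ∀ j (y : A' ⊗[B'] L), psi hsq L j y ∈ M := fun j y => by
    refine Submodule.span_induction (p := fun y _ => ∀ j, psi hsq L j y ∈ M) ?_ ?_ ?_ ?_ (hT y) j
    · rintro _ ⟨t, ht, rfl⟩ j
      rw [psi_one]
      exact M.smul_mem _ (Submodule.subset_span (by simp [Finset.mem_coe.1 ht]))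
    · intro j; rw [map_zero]; exact zero_mem _
    · intro x y _ _ hx hy j; rw [map_add]; exact add_mem (hx j) (hy j)
    · intro a y hmem hy j
      have e : psi hsq L j (a • y) = psi hsq L ⟨act hsq j a, (act_spec hsq j a).1⟩ y := by
        clear hy hmem
        induction y using TensorProduct.induction_on with
        | zero => simp
        | tmul c m =>
          rw [smul_tmul', psi_tmul, psi_tmul]
          congr 1
          refine (act_eq hsq (act_spec hsq _ _).1 ?_)
          rw [(act_spec hsq _ _).2, (act_spec hsq _ _).2, smul_eq_mul]; ring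
        | add x y hx hy => rw [smul_add, map_add, map_add, hx, hy]
      rw [e]; exact hy _
  refine ⟨⟨S.image pre ∪ T, eq_top_iff.2 fun l _ => ?_⟩⟩
  have key : ∀ x : B ⊗[B'] L, ∃ m ∈ M, (1 : B) ⊗ₜ[B'] m = x := fun x => by
    refine Submodule.span_induction (p := fun x _ => ∃ m ∈ M, (1 : B) ⊗ₜ[B'] m = x) ?_ ?_ ?_ ?_
      (hS.ge (Submodule.mem_top (x := x)))
    · intro s hs
      exact ⟨pre s, Submodule.subset_span (by simp only [Finset.coe_union, Finset.coe_image]; exact Or.inl ⟨s, hs, rfl⟩), hpre s⟩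
    · exact ⟨0, zero_mem _, tmul_zero _ _⟩
    · rintro _ _ _ _ ⟨m, hm, rfl⟩ ⟨m', hm', rfl⟩; exact ⟨m + m', add_mem hm hm', tmul_add _ _ _⟩
    · rintro b _ _ ⟨m, hm, rfl⟩
      obtain ⟨c, rfl⟩ := surj hsq b
      exact ⟨c • m, M.smul_mem c hm, by rw [tmul_smul, algebraMap_smul]⟩
  obtain ⟨m, hm, hml⟩ := key ((1 : B) ⊗ₜ[B'] l)
  have h0 : l - m ∈ (RingHom.ker (algebraMap B' B)) • (⊤ : Submodule B' L) :=
    mem_smul_top_of_tmul hsq L (by rw [tmul_sub, hml, sub_self])
  have h1 : (RingHom.ker (algebraMap B' B)) • (⊤ : Submodule B' L) ≤ M :=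
    Submodule.smul_le.2 fun j hj n _ => psi_one hsq L ⟨j, hj⟩ n ▸ hpsi _ _
  rw [← sub_add_cancel l m]
  exact add_mem (h1 h0) hm

/-- Kernel of `A' ⊗ L → A ⊗ L`. -/
theorem exists_of_rTensor_eq_zero {z : A' ⊗[B'] L}
    (hz : (IsScalarTower.toAlgHom B' A' A).toLinearMap.rTensor L z = 0) :
    ∃ l : L, (1 : A') ⊗ₜ[B'] l = z ∧ (1 : B) ⊗ₜ[B'] l = (0 : B ⊗[B'] L) := by
  obtain ⟨w, rfl⟩ := (rTensor_exact L (LinearMap.exact_subtype_ker_map
    (IsScalarTower.toAlgHom B' A' A).toLinearMap) hsq.1 z).1 hz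
  clear hz
  induction w using TensorProduct.induction_on with
  | zero => exact ⟨0, by simp, tmul_zero _ _⟩
  | tmul i l =>
    obtain ⟨j, hj, hji⟩ := (ker_bijOn hsq).surjOn (show (i : A') ∈ RingHom.ker (algebraMap A' A) from i.2)
    refine ⟨j • l, ?_, ?_⟩
    · rw [← smul_tmul, Algebra.smul_def, mul_one, hji]; rfl
    · rw [← smul_tmul, Algebra.smul_def, mul_one, show algebraMap B' B j = 0 from hj, zero_tmul]
  | add x y hx hy =>
    obtain ⟨a, ha, ha'⟩ := hx; obtain ⟨b, hb, hb'⟩ := hy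
    exact ⟨a + b, by rw [tmul_add, ha, hb, map_add], by rw [tmul_add, ha', hb', add_zero]⟩

theorem exists_pair (x : B ⊗[B'] L) (y : A' ⊗[B'] L)
    (hxy : (IsScalarTower.toAlgHom B' B A).toLinearMap.rTensor L x = (IsScalarTower.toAlgHom B' A' A).toLinearMap.rTensor L y) :
    ∃ l : L, (1 : B) ⊗ₜ[B'] l = x ∧ (1 : A') ⊗ₜ[B'] l = y := by
  obtain ⟨l₀, rfl⟩ := exists_one_tmul hsq L x
  obtain ⟨l₁, h1, h2⟩ := exists_of_rTensor_eq_zero hsq L (z := y - (1 : A') ⊗ₜ[B'] l₀) (by
    rw [map_sub, ← hxy]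
    simp)
  exact ⟨l₀ + l₁, by rw [tmul_add, h2, add_zero], by rw [tmul_add, h1, add_sub_cancel]⟩

end Groth.Agent.EtMilLib
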