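import Groth.Agent.EtMilLib.Flat

/-!
Milnor squares: the glued module.
-/

set_option autoImplicit false
set_option linter.style.haveILetI false

universe u

open TensorProduct

namespace Groth.Agent.EtMilLib

variable {B' B A' A : Type u} [CommRing B'] [CommRing B] [CommRing A'] [CommRing A]
  [Algebra B' B] [Algebra B' A'] [Algebra B A] [Algebra A' A] [Algebra B' A]
  [IsScalarTower B' B A] [IsScalarTower B' A' A] (hsq : EtMil.IsFibreSquare B' B A' A)
  {N M' : Type u} [AddCommGroup N] [Module B N] [Module B' N] [IsScalarTower B' B N]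
  [AddCommGroup M'] [Module A' M'] [Module B' M'] [IsScalarTower B' A' M'] (φ : A ⊗[B] N ≃ₗ[A] A ⊗[A'] M')

theorem mem_glue {n : N} {m : M'} : (n, m) ∈ EtMil.glue B' φ ↔ φ ((1 : A) ⊗ₜ[B] n) = (1 : A) ⊗ₜ[A'] m :=
  Iff.rfl

include hsq

theorem exists_one_tmul_right (w : A ⊗[A'] M') : ∃ m : M', (1 : A) ⊗ₜ[A'] m = w := by
  induction w using TensorProduct.induction_on with
  | zero => exact ⟨0, tmul_zero _ _⟩
  | tmul a m =>
    obtain ⟨a', rfl⟩ := hsq.1 a
    exact ⟨a' • m, by rw [← smul_tmul, Algebra.smul_def, mul_one]⟩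
  | add x y hx hy =>
    obtain ⟨a, rfl⟩ := hx; obtain ⟨b, rfl⟩ := hy
    exact ⟨a + b, tmul_add _ _ _⟩

theorem glueFst_surjective : Function.Surjective (EtMil.glueFst B' φ) := fun n => by
  obtain ⟨m, hm⟩ := exists_one_tmul_right hsq (φ ((1 : A) ⊗ₜ[B] n)) (M' := M')
  exact ⟨⟨(n, m), hm.symm⟩, rfl⟩

theorem sndBC_surjective : Function.Surjective (LinearMap.liftBaseChange A' (EtMil.glueSnd B' φ)) := fun m => by
  obtain ⟨w, hw⟩ := φ.surjective ((1 : A) ⊗ₜ[A'] m)
  obtain ⟨z, hz⟩ : ∃ z, (1 : A) ⊗ₜ[A'] (LinearMap.liftBaseChange A' (EtMil.glueSnd B' φ) z) = φ w := by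
    clear hw
    induction w using TensorProduct.induction_on with
    | zero => exact ⟨0, by simp⟩
    | tmul a n =>
      obtain ⟨a', rfl⟩ := hsq.1 a
      obtain ⟨⟨⟨n', m'⟩, hx⟩, rfl⟩ := glueFst_surjective hsq φ n
      refine ⟨a' ⊗ₜ ⟨(n', m'), hx⟩, ?_⟩
      rw [LinearMap.liftBaseChange_tmul, tmul_smul, ← algebraMap_smul A a',
        show ((algebraMap A' A a') ⊗ₜ[B] EtMil.glueFst B' φ ⟨(n', m'), hx⟩ : A ⊗[B] N) = algebraMap A' A a' • ((1 : A) ⊗ₜ[B] n') by
          rw [smul_tmul', smul_eq_mul, mul_one]; rfl, map_smul, (mem_glue φ).1 hx]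
      rfl
    | add x y hx hy =>
      obtain ⟨a, ha⟩ := hx; obtain ⟨b, hb⟩ := hy
      exact ⟨a + b, by rw [map_add, tmul_add, ha, hb, map_add]⟩
  have hy : ((0, m - LinearMap.liftBaseChange A' (EtMil.glueSnd B' φ) z) : N × M') ∈ EtMil.glue B' φ := by
    rw [mem_glue, tmul_zero, map_zero, tmul_sub, hz, hw, sub_self]
  exact ⟨z + (1 : A') ⊗ₜ ⟨_, hy⟩, by rw [map_add, LinearMap.liftBaseChange_tmul, one_smul]; exact add_sub_cancel _ m⟩

theorem mem_of_fst_eq_zero (x : EtMil.glue B' φ) (hx : EtMil.glueFst B' φ x = 0) :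
    x ∈ (RingHom.ker (algebraMap B' B)) • (⊤ : Submodule B' (EtMil.glue B' φ)) := by
  obtain ⟨⟨n, m⟩, hmem⟩ := x
  have hn : n = 0 := hx
  subst hn
  have h0 : ((1 : A) ⊗ₜ[A'] m : A ⊗[A'] M') = 0 := by
    have := (mem_glue φ).1 hmem
    rwa [tmul_zero, map_zero, eq_comm] at this
  let e : (A' ⧸ RingHom.ker (algebraMap A' A)) ≃ₗ[A'] A :=
    (Ideal.quotientKerAlgEquivOfSurjective (f := Algebra.ofId A' A) hsq.1).toLinearEquiv
  have he : (1 : A' ⧸ RingHom.ker (algebraMap A' A)) = e.symm 1 := by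
    rw [LinearEquiv.eq_symm_apply]
    exact map_one (Ideal.quotientKerAlgEquivOfSurjective (f := Algebra.ofId A' A) hsq.1)
  have hm : m ∈ (RingHom.ker (algebraMap A' A)) • (⊤ : Submodule A' M') := by
    have h1 := congrArg (fun z => quotTensorEquivQuotSMul M' (RingHom.ker (algebraMap A' A))
      (LinearEquiv.rTensor M' e.symm z)) h0
    simp only [map_zero, LinearEquiv.rTensor_tmul, ← he] at h1
    rw [← Submodule.Quotient.mk_eq_zero, ← h1,
      show (1 : A' ⧸ RingHom.ker (algebraMap A' A)) = Ideal.Quotient.mk _ 1 from rfl,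
      quotTensorEquivQuotSMul_mk_tmul, one_smul]
  clear h0
  have key : ∃ w : EtMil.glue B' φ, w ∈ (RingHom.ker (algebraMap B' B)) • (⊤ : Submodule B' (EtMil.glue B' φ)) ∧
      (w : N × M') = (0, m) := by
    refine Submodule.smul_induction_on (p := fun m => ∃ w : EtMil.glue B' φ,
      w ∈ (RingHom.ker (algebraMap B' B)) • (⊤ : Submodule B' (EtMil.glue B' φ)) ∧ (w : N × M') = (0, m)) hm
      (fun i hi m' hm' => ?_) ?_
    · obtain ⟨j, hj, rfl⟩ := (ker_bijOn hsq).surjOn hi
      clear hm'
      obtain ⟨z, rfl⟩ := sndBC_surjective hsq φ m'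
      refine ⟨psi hsq _ ⟨j, hj⟩ z, ?_, ?_⟩
      · induction z using TensorProduct.induction_on with
        | zero => rw [map_zero]; exact zero_mem _
        | tmul a x => rw [psi_tmul]; exact Submodule.smul_mem_smul (act_spec hsq _ _).1 trivial
        | add a b ha hb => rw [map_add]; exact add_mem ha hb
      · induction z using TensorProduct.induction_on with
        | zero => rw [map_zero, map_zero, Submodule.coe_zero, smul_zero]; rfl
        | tmul a x =>
          rw [psi_tmul, Submodule.coe_smul]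
          refine Prod.ext ?_ ?_
          · show act hsq _ a • (x : N × M').1 = 0
            rw [← IsScalarTower.algebraMap_smul B, (act_spec hsq _ _).1, zero_smul]
          · show act hsq _ a • (x : N × M').2 = algebraMap B' A' j • LinearMap.liftBaseChange A' (EtMil.glueSnd B' φ) (a ⊗ₜ x)
            rw [LinearMap.liftBaseChange_tmul, ← IsScalarTower.algebraMap_smul A', (act_spec hsq _ _).2, mul_comm, mul_smul]
            rfl
        | add a b ha hb => rw [map_add, map_add, Submodule.coe_add, ha, hb, smul_add, Prod.mk_add_mk, add_zero]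
    · rintro a b ⟨v, hv, hv'⟩ ⟨w, hw, hw'⟩
      exact ⟨v + w, add_mem hv hw, by rw [Submodule.coe_add, hv', hw', Prod.mk_add_mk, add_zero]⟩
  obtain ⟨w, hw, hwe⟩ := key
  rwa [show (⟨(0, m), hmem⟩ : EtMil.glue B' φ) = w from Subtype.ext hwe.symm]

theorem fstBC_bijective : Function.Bijective (LinearMap.liftBaseChange B (EtMil.glueFst B' φ)) := by
  refine ⟨(injective_iff_map_eq_zero _).2 fun z hz => ?_, fun n => ?_⟩
  · obtain ⟨x, rfl⟩ := exists_one_tmul hsq _ z
    rw [LinearMap.liftBaseChange_tmul, one_smul] at hz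
    exact tmul_eq_zero_of_mem hsq _ (mem_of_fst_eq_zero hsq φ x hz)
  · obtain ⟨x, rfl⟩ := glueFst_surjective hsq φ n
    exact ⟨1 ⊗ₜ x, by rw [LinearMap.liftBaseChange_tmul, one_smul]⟩

theorem sndBC_bijective : Function.Bijective (LinearMap.liftBaseChange A' (EtMil.glueSnd B' φ)) := by
  refine ⟨(injective_iff_map_eq_zero _).2 fun z hz => ?_, sndBC_surjective hsq φ⟩
  let θ : A ⊗[B'] EtMil.glue B' φ ≃ₗ[A] A ⊗[B] N :=
    (AlgebraTensorModule.cancelBaseChange B' B A A (EtMil.glue B' φ)).symm.trans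
      (AlgebraTensorModule.congr (LinearEquiv.refl A A) (LinearEquiv.ofBijective _ (fstBC_bijective hsq φ)))
  have hθ : ∀ w : A' ⊗[B'] EtMil.glue B' φ, φ (θ ((IsScalarTower.toAlgHom B' A' A).toLinearMap.rTensor _ w)) =
      (1 : A) ⊗ₜ[A'] LinearMap.liftBaseChange A' (EtMil.glueSnd B' φ) w := fun w => by
    induction w using TensorProduct.induction_on with
    | zero => simp
    | tmul a x =>
      obtain ⟨⟨n, m⟩, hx⟩ := x
      rw [LinearMap.rTensor_tmul, LinearMap.liftBaseChange_tmul, tmul_smul, ← algebraMap_smul A a]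
      show φ (algebraMap A' A a ⊗ₜ[B] ((1 : B) • n)) = _
      rw [one_smul, show (algebraMap A' A a ⊗ₜ[B] n : A ⊗[B] N) = algebraMap A' A a • ((1 : A) ⊗ₜ[B] n) by
          rw [smul_tmul', smul_eq_mul, mul_one], map_smul, (mem_glue φ).1 hx]
      rfl
    | add a b ha hb => simp only [map_add, tmul_add, ha, hb]
  have h0 : (IsScalarTower.toAlgHom B' A' A).toLinearMap.rTensor _ z = 0 :=
    θ.injective (φ.injective (by rw [hθ, hz, tmul_zero, map_zero, map_zero]))
  obtain ⟨x, rfl, hxB⟩ := exists_of_rTensor_eq_zero hsq _ h0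
  have h1 := congrArg (LinearMap.liftBaseChange B (EtMil.glueFst B' φ)) hxB
  rw [LinearMap.liftBaseChange_tmul, one_smul, map_zero] at h1
  rw [LinearMap.liftBaseChange_tmul, one_smul] at hz
  rw [show x = 0 from Subtype.ext (Prod.ext h1 hz), tmul_zero]

theorem glue_finite [Module.Finite B N] [Module.Finite A' M'] : Module.Finite B' (EtMil.glue B' φ) := by
  haveI := Module.Finite.equiv (LinearEquiv.ofBijective _ (fstBC_bijective hsq φ)).symm
  haveI := Module.Finite.equiv (LinearEquiv.ofBijective _ (sndBC_bijective hsq φ)).symm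
  exact finite hsq _

theorem glue_flat [Module.Flat B N] [Module.Flat A' M'] : Module.Flat B' (EtMil.glue B' φ) := by
  haveI := Module.Flat.of_linearEquiv (LinearEquiv.ofBijective _ (fstBC_bijective hsq φ))
  haveI := Module.Flat.of_linearEquiv (LinearEquiv.ofBijective _ (sndBC_bijective hsq φ))
  exact flat hsq

/-- Finite presentation descends along a Milnor square for flat modules. -/
theorem finitePresentation (L : Type u) [AddCommGroup L] [Module B' L]
    [Module.Flat B (B ⊗[B'] L)] [Module.FinitePresentation B (B ⊗[B'] L)]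
    [Module.Flat A' (A' ⊗[B'] L)] [Module.FinitePresentation A' (A' ⊗[B'] L)] :
    Module.FinitePresentation B' L := by
  haveI := finite hsq L
  haveI : Module.Flat B' L := flat hsq
  obtain ⟨r, p, hp⟩ := Module.Finite.exists_fin' B' L
  suffices (LinearMap.ker p).FG from Module.finitePresentation_of_surjective p hp this
  have hfin : ∀ (S : Type u) [CommRing S] [Algebra B' S] [Module.Flat S (S ⊗[B'] L)]
      [Module.FinitePresentation S (S ⊗[B'] L)], Module.Finite S (S ⊗[B'] LinearMap.ker p) := by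
    intro S _ _ _ _
    have hs : Function.Surjective (p.baseChange S) := LinearMap.lTensor_surjective S hp
    haveI : Module.Finite S (LinearMap.ker (p.baseChange S)) :=
      Module.Finite.of_fg (Module.FinitePresentation.fg_ker _ hs)
    have hinj : Function.Injective ((LinearMap.ker p).subtype.baseChange S) :=
      LinearMap.lTensor_injective_of_exact_of_flat (M := ↥(LinearMap.ker p)) p hp (LinearMap.ker p).subtype
        (Submodule.subtype_injective _) (LinearMap.exact_subtype_ker_map p) S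
    have hr : LinearMap.range ((LinearMap.ker p).subtype.baseChange S) = LinearMap.ker (p.baseChange S) :=
      SetLike.ext fun x => ((lTensor_exact S (LinearMap.exact_subtype_ker_map p) hp) x).symm
    exact Module.Finite.equiv ((LinearEquiv.ofInjective _ hinj).trans (LinearEquiv.ofEq _ _ hr)).symm
  haveI := hfin B
  haveI := hfin A'
  exact (Module.Finite.iff_fg).1 (finite hsq (LinearMap.ker p))

end Groth.Agent.EtMilLib
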