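import Groth.Agent.EtMilLib.Alg

/-!
Milnor squares: relative finite presentation.
-/

set_option autoImplicit false
set_option linter.style.haveILetI false

universe u

open TensorProduct

namespace Groth.Agent.EtMilLib

/-- If `L` is flat over `R` and `PS = S ⊗_R P`, base change to `PS` preserves kernels onto `L`; so a
finitely presented base change has a finite base changed kernel. -/
theorem finite_baseChange_ker {R S P PS : Type u} [CommRing R] [CommRing S] [CommRing P] [CommRing PS]
    [Algebra R S] [Algebra R P] [Algebra P PS] [Algebra S PS] [Algebra R PS] [IsScalarTower R P PS]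
    [IsScalarTower R S PS] [Algebra.IsPushout R S P PS]
    {L : Type u} [AddCommGroup L] [Module P L] [Module R L] [IsScalarTower R P L] [Module.Flat R L]
    [Module.FinitePresentation PS (PS ⊗[P] L)] {r : ℕ} (p : (Fin r → P) →ₗ[P] L) (hp : Function.Surjective p) :
    Module.Finite PS (PS ⊗[P] LinearMap.ker p) := by
  have hs : Function.Surjective (p.baseChange PS) := LinearMap.lTensor_surjective PS hp
  haveI : Module.Finite PS (LinearMap.ker (p.baseChange PS)) :=
    Module.Finite.of_fg (Module.FinitePresentation.fg_ker _ hs)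
  let g := (LinearMap.ker p).subtype
  let c₁ := Algebra.IsPushout.cancelBaseChange R S P PS (LinearMap.ker p)
  let c₂ := Algebra.IsPushout.cancelBaseChange R S P PS (Fin r → P)
  have hnat : ∀ y, g.baseChange PS (c₁.symm y) = c₂.symm ((g.restrictScalars R).lTensor S y) := fun y => by
    induction y using TensorProduct.induction_on with
    | zero => simp
    | tmul s k =>
      rw [LinearMap.lTensor_tmul, LinearMap.coe_restrictScalars, Algebra.IsPushout.cancelBaseChange_symm_tmul,
        Algebra.IsPushout.cancelBaseChange_symm_tmul, LinearMap.baseChange_tmul]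
    | add a b ha hb => simp only [map_add, ha, hb]
  have hinj0 : Function.Injective ((g.restrictScalars R).lTensor S) :=
    LinearMap.lTensor_injective_of_exact_of_flat (p.restrictScalars R) hp (g.restrictScalars R)
      (Submodule.subtype_injective _) (fun x => ⟨fun hx => ⟨⟨x, hx⟩, rfl⟩, by rintro ⟨k, rfl⟩; exact k.2⟩) S
  have hinj : Function.Injective (g.baseChange PS) := fun x y h => by
    obtain ⟨x, rfl⟩ := c₁.symm.surjective x
    obtain ⟨y, rfl⟩ := c₁.symm.surjective y
    rw [hnat, hnat] at h
    rw [hinj0 (c₂.symm.injective h)]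
  have hr : LinearMap.range (g.baseChange PS) = LinearMap.ker (p.baseChange PS) :=
    SetLike.ext fun x => ((lTensor_exact PS (LinearMap.exact_subtype_ker_map p) hp) x).symm
  exact Module.Finite.equiv ((LinearEquiv.ofInjective _ hinj).trans (LinearEquiv.ofEq _ _ hr)).symm

variable {B' B A' A : Type u} [CommRing B'] [CommRing B] [CommRing A'] [CommRing A]
  [Algebra B' B] [Algebra B' A'] [Algebra B A] [Algebra A' A] [Algebra B' A]
  [IsScalarTower B' B A] [IsScalarTower B' A' A] (hsq : EtMil.IsFibreSquare B' B A' A)
  (P PB PA' PA : Type u) [CommRing P] [CommRing PB] [CommRing PA'] [CommRing PA] [Algebra B' P]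
  [Algebra B PB] [Algebra B' PB] [IsScalarTower B' B PB] [Algebra P PB] [IsScalarTower B' P PB]
  [Algebra.IsPushout B' B P PB]
  [Algebra A' PA'] [Algebra B' PA'] [IsScalarTower B' A' PA'] [Algebra P PA'] [IsScalarTower B' P PA']
  [Algebra.IsPushout B' A' P PA']
  [Algebra A PA] [Algebra B' PA] [IsScalarTower B' A PA] [Algebra P PA] [IsScalarTower B' P PA]
  [Algebra.IsPushout B' A P PA]
  [Algebra PB PA] [IsScalarTower P PB PA] [Algebra B PA] [IsScalarTower B A PA] [IsScalarTower B PB PA]
  [Algebra PA' PA] [IsScalarTower P PA' PA] [Algebra A' PA] [IsScalarTower A' A PA] [IsScalarTower A' PA' PA]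

include hsq

/-- A flat base change of a Milnor square is a Milnor square. -/
theorem isFibreSquare_baseChange [Module.Flat B' P] : EtMil.IsFibreSquare P PB PA' PA := by
  have hsurj : Function.Surjective (algebraMap PA' PA) := fun c => by
    refine (Algebra.IsPushout.out (R := B') (S := A) (R' := P) (S' := PA)).inductionOn c
      (fun c => ∃ c', algebraMap PA' PA c' = c) ?_ ?_ ?_ ?_
    · exact ⟨0, map_zero _⟩
    · exact fun d => ⟨algebraMap P PA' d, (IsScalarTower.algebraMap_apply P PA' PA d).symm⟩
    · rintro a _ ⟨c', rfl⟩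
      obtain ⟨a', rfl⟩ := hsq.1 a
      refine ⟨algebraMap A' PA' a' * c', ?_⟩
      rw [map_mul, Algebra.smul_def, ← IsScalarTower.algebraMap_apply, ← IsScalarTower.algebraMap_apply]
    · rintro _ _ ⟨x, rfl⟩ ⟨y, rfl⟩; exact ⟨x + y, map_add _ _ _⟩
  refine ⟨hsurj, fun d c h => ?_⟩
  let eD := (Algebra.IsPushout.out (R := B') (S := B) (R' := P) (S' := PB)).equiv
  let eC' := (Algebra.IsPushout.out (R := B') (S := A') (R' := P) (S' := PA')).equiv
  let eC := (Algebra.IsPushout.out (R := B') (S := A) (R' := P) (S' := PA)).equiv
  have hB : ∀ x, eC ((IsScalarTower.toAlgHom B' B A).toLinearMap.rTensor P x) = algebraMap PB PA (eD x) := fun x => by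
    induction x using TensorProduct.induction_on with
    | zero => simp
    | tmul b z =>
      rw [LinearMap.rTensor_tmul, IsBaseChange.equiv_tmul, IsBaseChange.equiv_tmul]
      show algebraMap B A b • algebraMap P PA z = algebraMap PB PA (b • algebraMap P PB z)
      rw [Algebra.smul_def, Algebra.smul_def, map_mul, ← IsScalarTower.algebraMap_apply,
        ← IsScalarTower.algebraMap_apply, ← IsScalarTower.algebraMap_apply]
    | add a b ha hb => simp only [map_add, ha, hb]
  have hA' : ∀ x, eC ((IsScalarTower.toAlgHom B' A' A).toLinearMap.rTensor P x) = algebraMap PA' PA (eC' x) := fun x => by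
    induction x using TensorProduct.induction_on with
    | zero => simp
    | tmul b z =>
      rw [LinearMap.rTensor_tmul, IsBaseChange.equiv_tmul, IsBaseChange.equiv_tmul]
      show algebraMap A' A b • algebraMap P PA z = algebraMap PA' PA (b • algebraMap P PA' z)
      rw [Algebra.smul_def, Algebra.smul_def, map_mul, ← IsScalarTower.algebraMap_apply,
        ← IsScalarTower.algebraMap_apply, ← IsScalarTower.algebraMap_apply]
    | add a b ha hb => simp only [map_add, ha, hb]
  obtain ⟨l, hl, hl'⟩ := exists_pair hsq P (eD.symm d) (eC'.symm c)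
    (eC.injective (by rw [hB, hA', eD.apply_symm_apply, eC'.apply_symm_apply]; exact h))
  have h1 : algebraMap P PB l = d := by
    rw [← eD.apply_symm_apply d, ← hl, IsBaseChange.equiv_tmul, one_smul]; rfl
  have h2 : algebraMap P PA' l = c := by
    rw [← eC'.apply_symm_apply c, ← hl', IsBaseChange.equiv_tmul, one_smul]; rfl
  refine ⟨l, ⟨h1, h2⟩, fun y ⟨hy1, hy2⟩ => sub_eq_zero.1 (eq_zero_of_flat hsq (eD.injective ?_) (eC'.injective ?_))⟩
  · rw [IsBaseChange.equiv_tmul, one_smul, map_zero]
    show algebraMap P PB (y - l) = 0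
    rw [map_sub, sub_eq_zero, h1]; exact hy1
  · rw [IsBaseChange.equiv_tmul, one_smul, map_zero]
    show algebraMap P PA' (y - l) = 0
    rw [map_sub, sub_eq_zero, h2]; exact hy2

/-- Relative finite presentation descends along a Milnor square. -/
theorem finitePresentation_rel (hsqP : EtMil.IsFibreSquare P PB PA' PA) (L : Type u) [AddCommGroup L] [Module P L] [Module B' L]
    [IsScalarTower B' P L] [Module.Flat B' L] [Module.FinitePresentation PB (PB ⊗[P] L)]
    [Module.FinitePresentation PA' (PA' ⊗[P] L)] : Module.FinitePresentation P L := by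
  haveI := finite hsqP L
  obtain ⟨r, p, hp⟩ := Module.Finite.exists_fin' P L
  haveI := finite_baseChange_ker (R := B') (S := B) (PS := PB) p hp
  haveI := finite_baseChange_ker (R := B') (S := A') (PS := PA') p hp
  exact Module.finitePresentation_of_surjective p hp ((Module.Finite.iff_fg).1 (finite hsqP (LinearMap.ker p)))

end Groth.Agent.EtMilLib
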