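import Mathlib

/-!
Surjectivity on `Tor₁` along a surjection with free kernel, in terms of presentations.
-/

set_option autoImplicit false
set_option linter.style.haveILetI false

universe u

open TensorProduct CategoryTheory Limits MonoidalCategory

namespace Groth.Agent.EtMilLib

section core

variable {R : Type u} [CommRing R] {P G Q A L : Type u} [AddCommGroup P] [Module R P] [AddCommGroup G] [Module R G]
  [AddCommGroup Q] [Module R Q] [AddCommGroup A] [Module R A] [AddCommGroup L] [Module R L]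

/-- For `0 → R → G → A → 0`, the map `L → L ⊗ G` is injective iff every element of `Tor₁(L, A)` comes from
`Tor₁(L, G)`. -/
theorem injective_iff_tor_surjective [Module.Projective R Q] (πG : P →ₗ[R] G) (hπG : Function.Surjective πG)
    (πQ : Q →ₗ[R] A) (f : G →ₗ[R] A) (hf : Function.Surjective f)
    (ι : R →ₗ[R] G) (hι : Function.Injective ι) (hex : Function.Exact ι f)
    (g : P →ₗ[R] Q) (gZ : LinearMap.ker πG →ₗ[R] LinearMap.ker πQ) (hgZ : ∀ x, (gZ x : Q) = g x)
    (hg : πQ.comp g = f.comp πG) :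
    Function.Injective (ι.lTensor L) ↔
      ∀ z : L ⊗[R] LinearMap.ker πQ, (LinearMap.ker πQ).subtype.lTensor L z = 0 →
        ∃ x : L ⊗[R] LinearMap.ker πG, (LinearMap.ker πG).subtype.lTensor L x = 0 ∧ gZ.lTensor L x = z := by
  obtain ⟨s, hs⟩ := Module.projective_lifting_property (f.comp πG) πQ (hf.comp hπG)
  let Y := LinearMap.ker (f.comp πG)
  let eι := LinearEquiv.ofInjective ι hι
  let c : Y →ₗ[R] R := eι.symm.toLinearMap.comp ((πG.comp Y.subtype).codRestrict (LinearMap.range ι)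
    fun y => (hex _).1 y.2)
  have hc : ∀ y : Y, ι (c y) = πG y := fun y => congrArg Subtype.val (eι.apply_symm_apply _)
  obtain ⟨p₁, hp₁⟩ := hπG (ι 1)
  let u : R →ₗ[R] P := LinearMap.toSpanSingleton R P p₁
  have hu : ∀ r, πG (u r) = ι r := fun r => by
    show πG (r • p₁) = ι r
    rw [map_smul, hp₁, ← map_smul, smul_eq_mul, mul_one]
  have hfu : ∀ r, f (πG (u r)) = 0 := fun r => by rw [hu]; exact (hex _).2 ⟨r, rfl⟩
  let uY : R →ₗ[R] Y := u.codRestrict Y hfu
  let sY : LinearMap.ker πQ →ₗ[R] Y := (s.comp (LinearMap.ker πQ).subtype).codRestrict Y fun k => by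
    show (f.comp πG).comp s (k : Q) = 0
    rw [hs]; exact k.2
  let gY : Y →ₗ[R] LinearMap.ker πQ := (g.comp Y.subtype).codRestrict _ fun y => by
    show πQ.comp g (y : P) = 0
    rw [hg]; exact y.2
  let σ : LinearMap.ker πQ →ₗ[R] LinearMap.ker πG :=
    ((Y.subtype.comp sY - u.comp (c.comp sY))).codRestrict _ fun k => by
      show πG ((sY k : P) - u (c (sY k))) = 0
      rw [map_sub, hu, hc, sub_self]
  let d : Q →ₗ[R] LinearMap.ker πQ := (g.comp s - LinearMap.id).codRestrict _ fun q => by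
    show πQ (g (s q) - q) = 0
    rw [map_sub, ← LinearMap.comp_apply πQ, hg, LinearMap.comp_apply, ← LinearMap.comp_apply f,
      ← LinearMap.comp_apply (f.comp πG), hs, sub_self]
  constructor
  · intro hinj z hz
    have hcz : (c.comp sY).lTensor L z = 0 := by
      refine hinj ?_
      rw [map_zero, ← LinearMap.comp_apply, ← LinearMap.lTensor_comp,
        show ι.comp (c.comp sY) = (πG.comp s).comp (LinearMap.ker πQ).subtype from LinearMap.ext fun k => hc (sY k),
        LinearMap.lTensor_comp, LinearMap.comp_apply, hz, map_zero]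
    refine ⟨σ.lTensor L z, ?_, ?_⟩
    · rw [← LinearMap.comp_apply, ← LinearMap.lTensor_comp,
        show (LinearMap.ker πG).subtype.comp σ = s.comp (LinearMap.ker πQ).subtype - u.comp (c.comp sY) from rfl,
        LinearMap.lTensor_sub, LinearMap.sub_apply, LinearMap.lTensor_comp, LinearMap.comp_apply, hz,
        LinearMap.lTensor_comp, LinearMap.comp_apply, hcz, map_zero, map_zero, sub_zero]
    · rw [← LinearMap.comp_apply, ← LinearMap.lTensor_comp,
        show gZ.comp σ = LinearMap.id + d.comp (LinearMap.ker πQ).subtype - (gY.comp uY).comp (c.comp sY) from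
          LinearMap.ext fun k => Subtype.ext (by
            show (gZ (σ k) : Q) = (k : Q) + (g (s k) - k) - g (u (c (sY k)))
            rw [hgZ]
            show g (s k - u (c (sY k))) = _
            rw [map_sub]; abel),
        LinearMap.lTensor_sub, LinearMap.sub_apply, LinearMap.lTensor_add, LinearMap.add_apply,
        LinearMap.lTensor_id, LinearMap.id_apply, LinearMap.lTensor_comp, LinearMap.comp_apply, hz, map_zero,
        add_zero, LinearMap.lTensor_comp, LinearMap.comp_apply, hcz, map_zero, sub_zero]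
  · intro H
    refine (injective_iff_map_eq_zero _).2 fun e he => ?_
    have hπu : πG.comp u = ι := LinearMap.ext hu
    have h0 : πG.lTensor L (u.lTensor L e) = 0 := by
      rw [← LinearMap.comp_apply, ← LinearMap.lTensor_comp, hπu, he]
    obtain ⟨w, hw⟩ := (lTensor_exact L (LinearMap.exact_subtype_ker_map πG) hπG _).1 h0
    have hsub : (LinearMap.ker πQ).subtype.comp (gY.comp uY) = g.comp u := rfl
    have hsubZ : (LinearMap.ker πQ).subtype.comp gZ = g.comp (LinearMap.ker πG).subtype := LinearMap.ext hgZ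
    obtain ⟨x, hx, hgx⟩ := H ((gY.comp uY).lTensor L e - gZ.lTensor L w) (by
      rw [map_sub, ← LinearMap.comp_apply, ← LinearMap.lTensor_comp, hsub,
        ← LinearMap.comp_apply ((LinearMap.ker πQ).subtype.lTensor L), ← LinearMap.lTensor_comp, hsubZ,
        LinearMap.lTensor_comp, LinearMap.lTensor_comp, LinearMap.comp_apply, LinearMap.comp_apply, hw, sub_self])
    let j : LinearMap.ker πG →ₗ[R] Y := (LinearMap.ker πG).subtype.codRestrict Y fun k => by
      show f (πG k) = 0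
      rw [k.2, map_zero]
    let v := uY.lTensor L e - j.lTensor L w - j.lTensor L x
    have hvP : Y.subtype.lTensor L v = 0 := by
      rw [map_sub, map_sub, ← LinearMap.comp_apply, ← LinearMap.lTensor_comp,
        ← LinearMap.comp_apply (Y.subtype.lTensor L), ← LinearMap.lTensor_comp,
        ← LinearMap.comp_apply (Y.subtype.lTensor L), ← LinearMap.lTensor_comp,
        show Y.subtype.comp uY = u from rfl, show Y.subtype.comp j = (LinearMap.ker πG).subtype from rfl,
        hw, hx, sub_self, sub_zero]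
    have hgv : gY.lTensor L v = 0 := by
      have hgj : gY.comp j = gZ := LinearMap.ext fun k => Subtype.ext (hgZ k).symm
      rw [map_sub, map_sub, ← LinearMap.comp_apply, ← LinearMap.lTensor_comp,
        ← LinearMap.comp_apply (gY.lTensor L), ← LinearMap.lTensor_comp,
        ← LinearMap.comp_apply (gY.lTensor L), ← LinearMap.lTensor_comp, hgj, hgx, sub_self]
    let d' : P →ₗ[R] Y := (LinearMap.id - s.comp g).codRestrict Y fun p => by
      show (f.comp πG) (p - s (g p)) = 0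
      rw [map_sub, ← LinearMap.comp_apply (f.comp πG), hs, ← LinearMap.comp_apply, hg, sub_self]
    have hid : d'.comp Y.subtype + sY.comp gY = LinearMap.id := LinearMap.ext fun y => Subtype.ext (by
      show ((y : P) - s (g y)) + s (g y) = y
      abel)
    have hv : v = 0 := by
      have h1 := LinearMap.congr_fun (congrArg (LinearMap.lTensor L) hid) v
      rw [LinearMap.lTensor_add, LinearMap.add_apply, LinearMap.lTensor_comp, LinearMap.lTensor_comp,
        LinearMap.comp_apply, LinearMap.comp_apply, hvP, hgv, map_zero, map_zero, add_zero, LinearMap.lTensor_id,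
        LinearMap.id_apply] at h1
      exact h1.symm
    have hcu : c.comp uY = LinearMap.id := LinearMap.ext fun r => hι (by rw [LinearMap.comp_apply, hc]; exact hu r)
    have hcj : c.comp j = 0 := LinearMap.ext fun k => hι (by
      rw [LinearMap.comp_apply, hc, LinearMap.zero_apply, map_zero]; exact k.2)
    have h2 : c.lTensor L v = 0 := by rw [hv, map_zero]
    rwa [map_sub, map_sub, ← LinearMap.comp_apply, ← LinearMap.lTensor_comp, hcu,
      ← LinearMap.comp_apply (c.lTensor L), ← LinearMap.lTensor_comp,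
      ← LinearMap.comp_apply (c.lTensor L), ← LinearMap.lTensor_comp, hcj, LinearMap.lTensor_zero,
      LinearMap.zero_apply, LinearMap.zero_apply, sub_zero, sub_zero, LinearMap.lTensor_id, LinearMap.id_apply] at h2

end core

section cat

variable {R : Type u} [CommRing R]

/-- Surjectivity of `H₁ K₁ ⊕ H₁ K₂ → H₁ M` on cycles. -/
theorem epi_homology_desc_iff {K₁ K₂ M : ChainComplex (ModuleCat.{u} R) ℕ} (g₁ : K₁ ⟶ M) (g₂ : K₂ ⟶ M) :
    Epi (biprod.desc (HomologicalComplex.homologyMap g₁ 1) (HomologicalComplex.homologyMap g₂ 1)) ↔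
      ∀ y : M.X 1, M.d 1 0 y = 0 → ∃ x₁ : K₁.X 1, ∃ x₂ : K₂.X 1, K₁.d 1 0 x₁ = 0 ∧ K₂.d 1 0 x₂ = 0 ∧
        ∃ w : M.X 2, g₁.f 1 x₁ + g₂.f 1 x₂ = y + M.d 2 1 w := by
  have hπ : ∀ K : ChainComplex (ModuleCat.{u} R) ℕ, Function.Surjective (K.homologyπ 1) := fun K =>
    (ModuleCat.epi_iff_surjective _).1 inferInstance
  have hi : ∀ K : ChainComplex (ModuleCat.{u} R) ℕ, Function.Injective (K.iCycles 1) := fun K =>
    (ModuleCat.mono_iff_injective _).1 inferInstance
  have hcyc : ∀ (K : ChainComplex (ModuleCat.{u} R) ℕ) (x : K.X 1), K.d 1 0 x = 0 →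
      ∃ c, K.iCycles 1 c = x := fun K x hx =>
    ((ShortComplex.ShortExact.moduleCat_exact_iff_function_exact (ShortComplex.mk (K.iCycles 1) (K.d 1 0)
      (K.iCycles_d 1 0))).1 (ShortComplex.exact_of_f_is_kernel _ (K.cyclesIsKernel 1 0 (by simp))) x).1 hx
  have hid : ∀ (K : ChainComplex (ModuleCat.{u} R) ℕ) (c : K.cycles 1), K.d 1 0 (K.iCycles 1 c) = 0 := fun K c => by
    rw [← ConcreteCategory.comp_apply, K.iCycles_d 1 0]; rfl
  have hker : ∀ (K : ChainComplex (ModuleCat.{u} R) ℕ) (c : K.cycles 1), K.homologyπ 1 c = 0 →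
      ∃ w : K.X 2, K.d 2 1 w = K.iCycles 1 c := fun K c hc => by
    obtain ⟨w, hw⟩ := ((ShortComplex.ShortExact.moduleCat_exact_iff_function_exact (ShortComplex.mk (K.toCycles 2 1)
      (K.homologyπ 1) (K.toCycles_comp_homologyπ 2 1))).1
      (ShortComplex.exact_of_g_is_cokernel _ (K.homologyIsCokernel 2 1 (by simp))) c).1 hc
    refine ⟨w, ?_⟩
    rw [← K.toCycles_i 2 1, ConcreteCategory.comp_apply]
    exact congrArg _ hw
  have hbd : ∀ (K : ChainComplex (ModuleCat.{u} R) ℕ) (w : K.X 2), K.homologyπ 1 (K.toCycles 2 1 w) = 0 :=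
    fun K w => by rw [← ConcreteCategory.comp_apply, K.toCycles_comp_homologyπ 2 1]; rfl
  have hnat : ∀ {K : ChainComplex (ModuleCat.{u} R) ℕ} (g : K ⟶ M) (c : K.cycles 1),
      HomologicalComplex.homologyMap g 1 (K.homologyπ 1 c) = M.homologyπ 1 (HomologicalComplex.cyclesMap g 1 c) ∧
      M.iCycles 1 (HomologicalComplex.cyclesMap g 1 c) = g.f 1 (K.iCycles 1 c) := fun g c =>
    ⟨by rw [← ConcreteCategory.comp_apply, HomologicalComplex.homologyπ_naturality, ConcreteCategory.comp_apply],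
     by rw [← ConcreteCategory.comp_apply, HomologicalComplex.cyclesMap_i, ConcreteCategory.comp_apply]⟩
  rw [ModuleCat.epi_iff_surjective]
  constructor
  · intro h y hy
    obtain ⟨c, rfl⟩ := hcyc M y hy
    obtain ⟨t, ht⟩ := h (M.homologyπ 1 c)
    obtain ⟨c₁, h₁⟩ := hπ K₁ ((biprod.fst : K₁.homology 1 ⊞ K₂.homology 1 ⟶ _) t)
    obtain ⟨c₂, h₂⟩ := hπ K₂ ((biprod.snd : K₁.homology 1 ⊞ K₂.homology 1 ⟶ _) t)
    have hadd : ∀ {X Y : ModuleCat.{u} R} (a b : X ⟶ Y) (x : X), (a + b) x = a x + b x := fun _ _ _ => rfl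
    rw [biprod.desc_eq, hadd, ConcreteCategory.comp_apply,
      ConcreteCategory.comp_apply, ← h₁, ← h₂, (hnat g₁ c₁).1, (hnat g₂ c₂).1] at ht
    obtain ⟨w, hw⟩ := hker M (HomologicalComplex.cyclesMap g₁ 1 c₁ + HomologicalComplex.cyclesMap g₂ 1 c₂ - c)
      (by rw [map_sub, map_add, sub_eq_zero]; exact ht)
    refine ⟨_, _, hid K₁ c₁, hid K₂ c₂, w, ?_⟩
    rw [hw, map_sub, map_add, (hnat g₁ c₁).2, (hnat g₂ c₂).2, add_sub_cancel]
  · intro H b
    obtain ⟨c, rfl⟩ := hπ M b
    obtain ⟨x₁, x₂, hx₁, hx₂, w, hw⟩ := H _ (hid M c)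
    obtain ⟨c₁, rfl⟩ := hcyc K₁ x₁ hx₁
    obtain ⟨c₂, rfl⟩ := hcyc K₂ x₂ hx₂
    refine ⟨(biprod.inl : K₁.homology 1 ⟶ K₁.homology 1 ⊞ K₂.homology 1) (K₁.homologyπ 1 c₁) +
      (biprod.inr : K₂.homology 1 ⟶ K₁.homology 1 ⊞ K₂.homology 1) (K₂.homologyπ 1 c₂), ?_⟩
    have e₁ : ∀ z, biprod.desc (HomologicalComplex.homologyMap g₁ 1) (HomologicalComplex.homologyMap g₂ 1)
        ((biprod.inl : K₁.homology 1 ⟶ _) z) = HomologicalComplex.homologyMap g₁ 1 z := fun z => by
      rw [← ConcreteCategory.comp_apply, biprod.inl_desc]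
    have e₂ : ∀ z, biprod.desc (HomologicalComplex.homologyMap g₁ 1) (HomologicalComplex.homologyMap g₂ 1)
        ((biprod.inr : K₂.homology 1 ⟶ _) z) = HomologicalComplex.homologyMap g₂ 1 z := fun z => by
      rw [← ConcreteCategory.comp_apply, biprod.inr_desc]
    rw [map_add, e₁, e₂, (hnat g₁ c₁).1, (hnat g₂ c₂).1, ← map_add]
    have : HomologicalComplex.cyclesMap g₁ 1 c₁ + HomologicalComplex.cyclesMap g₂ 1 c₂ = c + M.toCycles 2 1 w := by
      refine hi M ?_
      rw [map_add, map_add, (hnat g₁ c₁).2, (hnat g₂ c₂).2, hw, ← ConcreteCategory.comp_apply (M.toCycles 2 1),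
        M.toCycles_i 2 1]
    rw [this, map_add, hbd, add_zero]

end cat

end Groth.Agent.EtMilLib

namespace Groth.Agent.EtMilLib

variable {R : Type u} [CommRing R]

/-- Degree one cycles of `L ⊗ P` and the kernel of `L ⊗ ker π → L ⊗ P₀`. -/
theorem pres {X : ModuleCat.{u} R} (P : ProjectiveResolution X) (L : Type u) [AddCommGroup L] [Module R L] :
    ∃ d' : P.complex.X 1 →ₗ[R] LinearMap.ker (P.π.f 0).hom,
      (LinearMap.ker (P.π.f 0).hom).subtype.comp d' = (P.complex.d 1 0).hom ∧ Function.Surjective d' ∧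
      Function.Exact ((P.complex.d 2 1).hom.lTensor L) (d'.lTensor L) := by
  let d1 : P.complex.X 1 →ₗ[R] P.complex.X 0 := (P.complex.d 1 0).hom
  let π : P.complex.X 0 →ₗ[R] X := (P.π.f 0).hom
  have h10 : Function.Exact d1 π := (ShortComplex.ShortExact.moduleCat_exact_iff_function_exact
    (ShortComplex.mk (P.complex.d 1 0) (P.π.f 0) P.complex_d_comp_π_f_zero)).1
    (ShortComplex.exact_of_g_is_cokernel _ P.isColimitCokernelCofork)
  have h21 : Function.Exact (P.complex.d 2 1).hom d1 :=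
    (ShortComplex.ShortExact.moduleCat_exact_iff_function_exact _).1 (P.exact_succ 0)
  let d' : P.complex.X 1 →ₗ[R] LinearMap.ker π := d1.codRestrict _ fun x => (h10 (d1 x)).2 ⟨x, rfl⟩
  have hd' : Function.Surjective d' := fun z => ((h10 z.1).1 z.2).imp fun x hx => Subtype.ext hx
  have h21' : Function.Exact (P.complex.d 2 1).hom d' := fun x =>
    ⟨fun hx => (h21 x).1 (congrArg Subtype.val hx), fun hx => Subtype.ext ((h21 x).2 hx)⟩
  exact ⟨d', rfl, hd', lTensor_exact L h21' hd'⟩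

/-- **The glueing unit is injective iff `Tor₁(L, X₁) ⊕ Tor₁(L, X₂) → Tor₁(L, Y)` is surjective**, for a short
exact sequence `0 → R → X₁ × X₂ → Y → 0`. -/
theorem injective_iff_epi_tor (L : Type u) [AddCommGroup L] [Module R L] (X₁ X₂ Y : Type u) [AddCommGroup X₁]
    [Module R X₁] [AddCommGroup X₂] [Module R X₂] [AddCommGroup Y] [Module R Y] (a : X₁ →ₗ[R] Y) (b : X₂ →ₗ[R] Y)
    (ι : R →ₗ[R] X₁ × X₂) (hι : Function.Injective ι)
    (hex : Function.Exact ι (a.comp (LinearMap.fst R X₁ X₂) - b.comp (LinearMap.snd R X₁ X₂)))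
    (hsurj : Function.Surjective (a.comp (LinearMap.fst R X₁ X₂) - b.comp (LinearMap.snd R X₁ X₂))) :
    Function.Injective (ι.lTensor L) ↔
      Epi (biprod.desc (((Tor (ModuleCat.{u} R) 1).obj (ModuleCat.of R L)).map (ModuleCat.ofHom a))
        (((Tor (ModuleCat.{u} R) 1).obj (ModuleCat.of R L)).map (ModuleCat.ofHom b))) := by
  let F := (tensoringLeft (ModuleCat.{u} R)).obj (ModuleCat.of R L)
  let P₁ := ProjectiveResolution.of (ModuleCat.of R X₁)
  let P₂ := ProjectiveResolution.of (ModuleCat.of R X₂)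
  let Q := ProjectiveResolution.of (ModuleCat.of R Y)
  let g₁ := ProjectiveResolution.lift (ModuleCat.ofHom a) P₁ Q
  let g₂ := ProjectiveResolution.lift (ModuleCat.ofHom b) P₂ Q
  have e₁ : ((Tor (ModuleCat.{u} R) 1).obj (ModuleCat.of R L)).map (ModuleCat.ofHom a) =
      (P₁.isoLeftDerivedObj F 1).hom ≫
        HomologicalComplex.homologyMap ((F.mapHomologicalComplex (ComplexShape.down ℕ)).map g₁) 1 ≫
          (Q.isoLeftDerivedObj F 1).inv :=
    Functor.leftDerived_map_eq F 1 _ g₁ (ProjectiveResolution.lift_commutes _ _ _)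
  have e₂ : ((Tor (ModuleCat.{u} R) 1).obj (ModuleCat.of R L)).map (ModuleCat.ofHom b) =
      (P₂.isoLeftDerivedObj F 1).hom ≫
        HomologicalComplex.homologyMap ((F.mapHomologicalComplex (ComplexShape.down ℕ)).map g₂) 1 ≫
          (Q.isoLeftDerivedObj F 1).inv :=
    Functor.leftDerived_map_eq F 1 _ g₂ (ProjectiveResolution.lift_commutes _ _ _)
  have hdesc : biprod.desc (((Tor (ModuleCat.{u} R) 1).obj (ModuleCat.of R L)).map (ModuleCat.ofHom a))
        (((Tor (ModuleCat.{u} R) 1).obj (ModuleCat.of R L)).map (ModuleCat.ofHom b)) =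
      (biprod.mapIso (P₁.isoLeftDerivedObj F 1) (P₂.isoLeftDerivedObj F 1)).hom ≫
        biprod.desc (HomologicalComplex.homologyMap ((F.mapHomologicalComplex (ComplexShape.down ℕ)).map g₁) 1)
          (HomologicalComplex.homologyMap ((F.mapHomologicalComplex (ComplexShape.down ℕ)).map g₂) 1) ≫
        (Q.isoLeftDerivedObj F 1).inv := by
    refine biprod.hom_ext' _ _ ?_ ?_
    · rw [biprod.inl_desc, e₁, biprod.mapIso_hom]
      erw [biprod.inl_map_assoc, biprod.inl_desc_assoc]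
      rfl
    · rw [biprod.inr_desc, e₂, biprod.mapIso_hom]
      erw [biprod.inr_map_assoc, biprod.inr_desc_assoc]
      rfl
  have hepi : Epi (biprod.desc (((Tor (ModuleCat.{u} R) 1).obj (ModuleCat.of R L)).map (ModuleCat.ofHom a))
        (((Tor (ModuleCat.{u} R) 1).obj (ModuleCat.of R L)).map (ModuleCat.ofHom b))) ↔
      Epi (biprod.desc (HomologicalComplex.homologyMap ((F.mapHomologicalComplex (ComplexShape.down ℕ)).map g₁) 1)
          (HomologicalComplex.homologyMap ((F.mapHomologicalComplex (ComplexShape.down ℕ)).map g₂) 1)) := by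
    rw [hdesc]
    exact (epi_comp_iff_of_epi _ _).trans (epi_comp_iff_of_isIso _ _)
  rw [hepi, epi_homology_desc_iff]
  obtain ⟨d₁, hd₁, hs₁, hx₁⟩ := pres P₁ L
  obtain ⟨d₂, hd₂, hs₂, hx₂⟩ := pres P₂ L
  obtain ⟨dQ, hdQ, hsQ, hxQ⟩ := pres Q L
  have hc₁ : ∀ p, (Q.π.f 0).hom ((g₁.f 0).hom p) = a ((P₁.π.f 0).hom p) := fun p =>
    LinearMap.congr_fun (congrArg ModuleCat.Hom.hom (ProjectiveResolution.lift_commutes_zero (ModuleCat.ofHom a) P₁ Q)) p
  have hc₂ : ∀ p, (Q.π.f 0).hom ((g₂.f 0).hom p) = b ((P₂.π.f 0).hom p) := fun p =>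
    LinearMap.congr_fun (congrArg ModuleCat.Hom.hom (ProjectiveResolution.lift_commutes_zero (ModuleCat.ofHom b) P₂ Q)) p
  let k₁ : LinearMap.ker (P₁.π.f 0).hom →ₗ[R] LinearMap.ker (Q.π.f 0).hom := ((g₁.f 0).hom.comp (LinearMap.ker (P₁.π.f 0).hom).subtype).codRestrict _
    fun k => by rw [LinearMap.mem_ker, LinearMap.comp_apply]; exact (hc₁ _).trans ((congrArg a k.2).trans (map_zero a))
  let k₂ : LinearMap.ker (P₂.π.f 0).hom →ₗ[R] LinearMap.ker (Q.π.f 0).hom := ((g₂.f 0).hom.comp (LinearMap.ker (P₂.π.f 0).hom).subtype).codRestrict _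
    fun k => by rw [LinearMap.mem_ker, LinearMap.comp_apply]; exact (hc₂ _).trans ((congrArg b k.2).trans (map_zero b))
  have hk₁ : k₁.comp d₁ = dQ.comp (g₁.f 1).hom := LinearMap.ext fun x => Subtype.ext (by
    show (g₁.f 0).hom ((LinearMap.ker (P₁.π.f 0).hom).subtype.comp d₁ x) = (LinearMap.ker (Q.π.f 0).hom).subtype.comp dQ ((g₁.f 1).hom x)
    rw [hd₁, hdQ]
    exact (LinearMap.congr_fun (congrArg ModuleCat.Hom.hom (g₁.comm 1 0)) x).symm)
  have hk₂ : k₂.comp d₂ = dQ.comp (g₂.f 1).hom := LinearMap.ext fun x => Subtype.ext (by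
    show (g₂.f 0).hom ((LinearMap.ker (P₂.π.f 0).hom).subtype.comp d₂ x) = (LinearMap.ker (Q.π.f 0).hom).subtype.comp dQ ((g₂.f 1).hom x)
    rw [hd₂, hdQ]
    exact (LinearMap.congr_fun (congrArg ModuleCat.Hom.hom (g₂.comm 1 0)) x).symm)
  -- the statement in terms of the presentations
  have hbridge : (∀ y : L ⊗[R] Q.complex.X 1, (Q.complex.d 1 0).hom.lTensor L y = 0 →
      ∃ x₁, ∃ x₂, (P₁.complex.d 1 0).hom.lTensor L x₁ = 0 ∧ (P₂.complex.d 1 0).hom.lTensor L x₂ = 0 ∧
        ∃ w, (g₁.f 1).hom.lTensor L x₁ + (g₂.f 1).hom.lTensor L x₂ = y + (Q.complex.d 2 1).hom.lTensor L w) ↔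
      ∀ z, (LinearMap.ker (Q.π.f 0).hom).subtype.lTensor L z = 0 → ∃ z₁, ∃ z₂, (LinearMap.ker (P₁.π.f 0).hom).subtype.lTensor L z₁ = 0 ∧
        (LinearMap.ker (P₂.π.f 0).hom).subtype.lTensor L z₂ = 0 ∧ k₁.lTensor L z₁ + k₂.lTensor L z₂ = z := by
    simp only [← hd₁, ← hd₂, ← hdQ, LinearMap.lTensor_comp, LinearMap.comp_apply]
    have hk₁' : ∀ x, k₁.lTensor L (d₁.lTensor L x) = dQ.lTensor L ((g₁.f 1).hom.lTensor L x) := fun x => by
      rw [← LinearMap.comp_apply, ← LinearMap.lTensor_comp, hk₁, LinearMap.lTensor_comp, LinearMap.comp_apply]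
    have hk₂' : ∀ x, k₂.lTensor L (d₂.lTensor L x) = dQ.lTensor L ((g₂.f 1).hom.lTensor L x) := fun x => by
      rw [← LinearMap.comp_apply, ← LinearMap.lTensor_comp, hk₂, LinearMap.lTensor_comp, LinearMap.comp_apply]
    constructor
    · intro H z hz
      obtain ⟨y, rfl⟩ := LinearMap.lTensor_surjective L hsQ z
      obtain ⟨x₁, x₂, h₁, h₂, w, hw⟩ := H y hz
      refine ⟨_, _, h₁, h₂, ?_⟩
      rw [hk₁', hk₂', ← map_add, hw, map_add, hxQ.apply_apply_eq_zero, add_zero]
    · intro H y hy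
      obtain ⟨z₁, z₂, h₁, h₂, hz⟩ := H _ hy
      obtain ⟨x₁, rfl⟩ := LinearMap.lTensor_surjective L hs₁ z₁
      obtain ⟨x₂, rfl⟩ := LinearMap.lTensor_surjective L hs₂ z₂
      rw [hk₁', hk₂', ← map_add, ← sub_eq_zero, ← map_sub] at hz
      obtain ⟨w, hw⟩ := (hxQ _).1 hz
      exact ⟨x₁, x₂, h₁, h₂, w, by rw [hw, add_sub_cancel]⟩
  refine Iff.trans ?_ hbridge.symm
  let πG := (P₁.π.f 0).hom.prodMap (P₂.π.f 0).hom
  let j₁ : LinearMap.ker πG →ₗ[R] LinearMap.ker (P₁.π.f 0).hom :=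
    ((LinearMap.fst R _ _).comp (LinearMap.ker πG).subtype).codRestrict _ fun k => congrArg Prod.fst k.2
  let j₂ : LinearMap.ker πG →ₗ[R] LinearMap.ker (P₂.π.f 0).hom :=
    ((LinearMap.snd R _ _).comp (LinearMap.ker πG).subtype).codRestrict _ fun k => congrArg Prod.snd k.2
  let i₁ : LinearMap.ker (P₁.π.f 0).hom →ₗ[R] LinearMap.ker πG :=
    ((LinearMap.inl R _ _).comp (LinearMap.ker (P₁.π.f 0).hom).subtype).codRestrict _ fun k => Prod.ext k.2 (map_zero (P₂.π.f 0).hom)
  let i₂ : LinearMap.ker (P₂.π.f 0).hom →ₗ[R] LinearMap.ker πG :=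
    ((LinearMap.inr R _ _).comp (LinearMap.ker (P₂.π.f 0).hom).subtype).codRestrict _ fun k => Prod.ext (map_zero (P₁.π.f 0).hom) k.2
  let g : P₁.complex.X 0 × P₂.complex.X 0 →ₗ[R] Q.complex.X 0 :=
    (g₁.f 0).hom.comp (LinearMap.fst R _ _) - (g₂.f 0).hom.comp (LinearMap.snd R _ _)
  let gZ := k₁.comp j₁ - k₂.comp j₂
  haveI : Module.Projective R (Q.complex.X 0) := (IsProjective.iff_projective (Q.complex.X 0)).2 (Q.projective 0)
  have hπ₁ : Function.Surjective (P₁.π.f 0).hom := (ModuleCat.epi_iff_surjective (P₁.π.f 0)).1 inferInstance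
  have hπ₂ : Function.Surjective (P₂.π.f 0).hom := (ModuleCat.epi_iff_surjective (P₂.π.f 0)).1 inferInstance
  refine Iff.trans (injective_iff_tor_surjective (L := L) (Q := Q.complex.X 0) πG (hπ₁.prodMap hπ₂) (Q.π.f 0).hom _ hsurj ι hι hex g gZ
    (fun _ => rfl) (LinearMap.ext fun p => by
      show (Q.π.f 0).hom ((g₁.f 0).hom p.1 - (g₂.f 0).hom p.2) = a ((P₁.π.f 0).hom p.1) - b ((P₂.π.f 0).hom p.2)
      rw [map_sub, hc₁, hc₂]; rfl)) ?_
  refine forall_congr' fun z => imp_congr_right fun _ => ⟨fun ⟨x, hx, hgx⟩ => ?_, fun ⟨z₁, z₂, h₁, h₂, hz⟩ => ?_⟩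
  · refine ⟨j₁.lTensor L x, -j₂.lTensor L x, ?_, ?_, ?_⟩
    · rw [← LinearMap.comp_apply, ← LinearMap.lTensor_comp,
        show (LinearMap.ker (P₁.π.f 0).hom).subtype.comp j₁ = (LinearMap.fst R _ _).comp (LinearMap.ker πG).subtype from rfl,
        LinearMap.lTensor_comp, LinearMap.comp_apply, hx, map_zero]
    · rw [map_neg, ← LinearMap.comp_apply, ← LinearMap.lTensor_comp,
        show (LinearMap.ker (P₂.π.f 0).hom).subtype.comp j₂ = (LinearMap.snd R _ _).comp (LinearMap.ker πG).subtype from rfl,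
        LinearMap.lTensor_comp, LinearMap.comp_apply, hx, map_zero, neg_zero]
    · rw [← hgx, map_neg, LinearMap.lTensor_sub, LinearMap.sub_apply, LinearMap.lTensor_comp, LinearMap.lTensor_comp,
        LinearMap.comp_apply, LinearMap.comp_apply, ← sub_eq_add_neg]
  · refine ⟨i₁.lTensor L z₁ - i₂.lTensor L z₂, ?_, ?_⟩
    · rw [map_sub, ← LinearMap.comp_apply, ← LinearMap.lTensor_comp,
        ← LinearMap.comp_apply ((LinearMap.ker πG).subtype.lTensor L), ← LinearMap.lTensor_comp,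
        show (LinearMap.ker πG).subtype.comp i₁ = (LinearMap.inl R _ _).comp (LinearMap.ker (P₁.π.f 0).hom).subtype from rfl,
        show (LinearMap.ker πG).subtype.comp i₂ = (LinearMap.inr R _ _).comp (LinearMap.ker (P₂.π.f 0).hom).subtype from rfl,
        LinearMap.lTensor_comp, LinearMap.lTensor_comp, LinearMap.comp_apply, LinearMap.comp_apply, h₁, h₂,
        map_zero, map_zero, sub_zero]
    · rw [map_sub, ← LinearMap.comp_apply, ← LinearMap.lTensor_comp,
        ← LinearMap.comp_apply (gZ.lTensor L), ← LinearMap.lTensor_comp,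
        show gZ.comp i₁ = k₁ from LinearMap.ext fun k => Subtype.ext (by
          show (g₁.f 0).hom (k : P₁.complex.X 0) - (g₂.f 0).hom 0 = (g₁.f 0).hom k
          rw [map_zero, sub_zero]),
        show gZ.comp i₂ = -k₂ from LinearMap.ext fun k => Subtype.ext (by
          show (g₁.f 0).hom 0 - (g₂.f 0).hom (k : P₂.complex.X 0) = -(g₂.f 0).hom k
          rw [map_zero, zero_sub]),
        LinearMap.lTensor_neg, LinearMap.neg_apply, sub_neg_eq_add, hz]

end Groth.Agent.EtMilLib
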